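import Groth.Agent.H13CInt.FlatPow
import Groth.Prelude.Def_RegImm
import Mathlib

/-!
# Quasi-regular sequences: localisation and flatness
-/

set_option autoImplicit false
set_option linter.style.haveILetI false
universe u

open MvPolynomial
open scoped TensorProduct

namespace Groth.Agent.H29Slice

/-- Quasi-regularity localises. -/
theorem isQuasiRegular_localization {R L : Type u} [CommRing R] [CommRing L] [Algebra R L]
    (M : Submonoid R) [IsLocalization M L] {r : ℕ} {f : Fin r → R} (hf : CAlgX.IsQuasiRegular f) :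
    CAlgX.IsQuasiRegular (fun i => algebraMap R L (f i)) := by
  classical
  set φ := algebraMap R L
  have hspan : Ideal.span (Set.range fun i => φ (f i)) = (Ideal.span (Set.range f)).map φ := by
    rw [Ideal.map_span, ← Set.range_comp]; rfl
  intro k P hP he d
  obtain ⟨s, hs⟩ := IsLocalization.exist_integer_multiples M P.support fun d => P.coeff d
  choose a ha using fun d : P.support => hs d.1 d.2
  let P₀ : MvPolynomial (Fin r) R := ∑ d : P.support, monomial d.1 (a d)
  have hP₀ : P₀.IsHomogeneous k := IsHomogeneous.sum _ _ _ fun d _ => isHomogeneous_monomial _ (by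
    rw [Finsupp.degree_apply]; exact (hP.degree_eq_sum_deg_support d.2).symm)
  have hmap : MvPolynomial.map φ P₀ = MvPolynomial.C (φ s) * P := by
    conv_rhs => rw [P.as_sum, Finset.mul_sum]
    rw [map_sum, ← Finset.sum_coe_sort P.support]
    refine Finset.sum_congr rfl fun d _ => ?_
    rw [map_monomial, C_mul_monomial, ha d, Algebra.smul_def]
  have heval : φ (eval f P₀) = φ s * eval (fun i => φ (f i)) P := by
    have h1 := MvPolynomial.map_eval φ f P₀
    rw [hmap, map_mul, eval_C] at h1
    exact h1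
  have h2 : φ (eval f P₀) ∈ (Ideal.span (Set.range f) ^ (k + 1)).map φ := by
    rw [heval, Ideal.map_pow, ← hspan]; exact Ideal.mul_mem_left _ _ he
  obtain ⟨t, ht, hte⟩ := (IsLocalization.algebraMap_mem_map_algebraMap_iff M L _ _).mp h2
  have h3 := hf k (C t * P₀) (hP₀.C_mul t) (by rw [map_mul, eval_C]; exact hte) d
  have hu : IsUnit (φ t * φ s) := (IsLocalization.map_units L ⟨t, ht⟩).mul (IsLocalization.map_units L s)
  rw [hspan, ← Ideal.unit_mul_mem_iff_mem _ hu]
  have h4 := Ideal.mem_map_of_mem φ h3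
  rw [coeff_C_mul, map_mul, ← MvPolynomial.coeff_map, hmap, coeff_C_mul, ← mul_assoc] at h4
  exact h4

/-- A Noetherian local algebra all of whose quotients by powers of a proper ideal are flat is flat. -/
theorem flat_of_flat_quotient_pows {A O : Type u} [CommRing A] [CommRing O] [IsLocalRing O]
    [IsNoetherianRing O] [Algebra A O] (I : Ideal O) (hI : I ≠ ⊤)
    (h : ∀ n : ℕ, Module.Flat A (O ⧸ I ^ n)) : Module.Flat A O := by
  rw [Module.Flat.iff_lTensor_injective]
  intro 𝔞 h𝔞
  haveI : Module.Finite A 𝔞 := Module.Finite.iff_fg.mpr h𝔞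
  haveI : Module.Finite O (O ⊗[A] 𝔞) := inferInstance
  rw [injective_iff_map_eq_zero]
  intro x hx
  have key : ∀ n : ℕ, x ∈ I ^ n • (⊤ : Submodule O (O ⊗[A] 𝔞)) := by
    intro n
    haveI := h n
    let π : O →ₗ[A] O ⧸ I ^ n := (Ideal.Quotient.mkₐ A (I ^ n)).toLinearMap
    have hπ : Function.Surjective π := Ideal.Quotient.mkₐ_surjective A (I ^ n)
    have hex : Function.Exact (LinearMap.ker π).subtype π := LinearMap.exact_subtype_ker_map π
    have h0 : π.rTensor 𝔞 x = 0 := by
      refine Module.Flat.lTensor_preserves_injective_linearMap (M := O ⧸ I ^ n) 𝔞.subtype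
        Subtype.val_injective ?_
      rw [map_zero]
      have hnat : ∀ y : O ⊗[A] 𝔞, 𝔞.subtype.lTensor (O ⧸ I ^ n) (π.rTensor 𝔞 y) =
          π.rTensor A (𝔞.subtype.lTensor O y) := fun y => by
        induction y with
        | zero => simp
        | tmul a b => simp
        | add u v hu hv => simp only [map_add, hu, hv]
      rw [hnat, hx, map_zero]
    obtain ⟨w, rfl⟩ := ((rTensor_exact 𝔞 hex hπ) x).mp h0
    clear hx h0
    induction w with
    | zero => simp
    | tmul k a =>
      rw [LinearMap.rTensor_tmul, Submodule.coe_subtype, show ((k : O) ⊗ₜ[A] a) = (k : O) • ((1 : O) ⊗ₜ[A] a) by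
        rw [TensorProduct.smul_tmul', smul_eq_mul, mul_one]]
      exact Submodule.smul_mem_smul (Ideal.Quotient.eq_zero_iff_mem.mp k.2) Submodule.mem_top
    | add u v hu hv => rw [map_add]; exact add_mem hu hv
  have hbot := Ideal.iInf_pow_smul_eq_bot_of_isLocalRing (M := O ⊗[A] 𝔞) I hI
  exact (Submodule.mem_bot O).mp (hbot ▸ Submodule.mem_iInf _ |>.mpr key)

end Groth.Agent.H29Slice

namespace Groth.Agent.H29Slice

open AlgebraicGeometry CategoryTheory IsLocalRing

/-- A map that restricts to a closed immersion over an affine open `U` is surjective on sections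
over `U`, with affine preimage, and its stalk kernels come from the kernel on `U`. -/
theorem ker_stalkMap_of_restrict {Z X : Scheme.{u}} (i : Z ⟶ X) (U : X.affineOpens)
    (hcl : IsClosedImmersion (i ∣_ U.1)) (z : Z) (hz : i z ∈ U.1) :
    RingHom.ker (i.stalkMap z).hom =
      (RingHom.ker (i.app U.1).hom).map (X.presheaf.germ U.1 (i z) hz).hom := by
  haveI := hcl
  haveI : IsAffine U.1.toScheme := U.2
  have hpre : IsAffineOpen (i ⁻¹ᵁ U.1) := isAffine_of_isAffineHom (i ∣_ U.1)
  have hsurj : Function.Surjective (i.app U.1).hom := by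
    have h := (IsClosedImmersion.isAffine_surjective_of_isAffine (f := i ∣_ U.1)).2
    rw [Scheme.Hom.appTop, morphismRestrict_app] at h
    have h1 : Function.Surjective (i.app (U.1.ι ''ᵁ ⊤)).hom := fun w => by
      obtain ⟨v, hv⟩ := h ((Z.presheaf.map (eqToHom (image_morphismRestrict_preimage i U.1 ⊤)).op).hom w)
      exact ⟨v, (ConcreteCategory.bijective_of_isIso (Z.presheaf.map (eqToHom (image_morphismRestrict_preimage i U.1 ⊤)).op)).1 hv⟩
    have key : ∀ U' : X.Opens, U' = U.1.ι ''ᵁ ⊤ → Function.Surjective (i.app U').hom := by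
      rintro _ rfl; exact h1
    exact key _ U.1.ι_image_top.symm
  let γ := (X.presheaf.germ U.1 (i z) hz).hom
  letI : Algebra Γ(X, U.1) (X.presheaf.stalk (i z)) := γ.toAlgebra
  haveI := U.2.isLocalization_stalk ⟨i z, hz⟩
  let γ' := (Z.presheaf.germ (i ⁻¹ᵁ U.1) z hz).hom
  letI : Algebra Γ(Z, i ⁻¹ᵁ U.1) (Z.presheaf.stalk z) := γ'.toAlgebra
  haveI := hpre.isLocalization_stalk ⟨z, hz⟩
  have hnat : ∀ b, i.stalkMap z (γ b) = γ' (i.app U.1 b) := fun b =>
    Scheme.Hom.germ_stalkMap_apply i U.1 z hz b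
  refine le_antisymm (fun r hr => ?_) (Ideal.map_le_iff_le_comap.mpr fun b hb => ?_)
  · obtain ⟨⟨b, s⟩, hbs⟩ := IsLocalization.surj (U.2.primeIdealOf ⟨i z, hz⟩).asIdeal.primeCompl r
    have hbs' : r * γ s = γ b := hbs
    have h0 : γ' (i.app U.1 b) = 0 := by
      rw [← hnat, ← hbs', map_mul, show i.stalkMap z r = 0 from hr, zero_mul]
    obtain ⟨⟨t', ht'⟩, ht0⟩ := (IsLocalization.map_eq_zero_iff (hpre.primeIdealOf ⟨z, hz⟩).asIdeal.primeCompl
      (Z.presheaf.stalk z) _).mp h0
    obtain ⟨t, rfl⟩ := hsurj t'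
    have hk : t * b ∈ RingHom.ker (i.app U.1).hom := by
      rw [RingHom.mem_ker, map_mul]; exact ht0
    have hut' : IsUnit (γ' (i.app U.1 t)) := IsLocalization.map_units
      (M := (hpre.primeIdealOf ⟨z, hz⟩).asIdeal.primeCompl) (Z.presheaf.stalk z) ⟨_, ht'⟩
    have hut : IsUnit (γ t) := by
      rw [← hnat] at hut'
      exact (isUnit_map_iff (i.stalkMap z).hom _).mp hut'
    have hus : IsUnit (γ s) := IsLocalization.map_units
      (M := (U.2.primeIdealOf ⟨i z, hz⟩).asIdeal.primeCompl) (X.presheaf.stalk (i z)) s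
    have h1 := Ideal.mem_map_of_mem γ hk
    rw [map_mul, ← hbs'] at h1
    exact (Ideal.mul_unit_mem_iff_mem _ hus).mp ((Ideal.unit_mul_mem_iff_mem _ hut).mp h1)
  · rw [Ideal.mem_comap, RingHom.mem_ker]
    show i.stalkMap z (γ b) = 0
    rw [hnat, show i.app U.1 b = 0 from hb, map_zero]

end Groth.Agent.H29Slice
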