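import Groth.Agent.H29Blow.Basic
import Mathlib

/-!
# The ideal of a closed immersion over an affine open, and its base change
-/

set_option autoImplicit false
universe u

open AlgebraicGeometry CategoryTheory CategoryTheory.Limits

namespace Groth.Agent.H29Slice

variable {X X' Z P : Scheme.{u}}

theorem image_preimage_eq_preimage (i : Z ⟶ X) (U : X.Opens) :
    (i ⁻¹ᵁ U).ι ''ᵁ ((i ∣_ U) ⁻¹ᵁ ⊤) = i ⁻¹ᵁ (U.ι ''ᵁ ⊤) :=
  image_morphismRestrict_preimage i U ⊤

/-- The kernel ideal of a restriction to an affine open, on the top open. -/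
theorem restrict_ker_top (i : Z ⟶ X) (U : X.Opens) (hU : IsAffineOpen U) [QuasiCompact (i ∣_ U)] :
    (i ∣_ U).ker.ideal ⟨⊤, @isAffineOpen_top _ hU⟩ =
      (RingHom.ker (i.app U).hom).comap U.topIso.hom.hom := by
  rw [Scheme.Hom.ker_apply]
  ext r
  rw [RingHom.mem_ker, Ideal.mem_comap, RingHom.mem_ker]
  show (i ∣_ U).appTop r = 0 ↔ i.app U (U.topIso.hom r) = 0
  rw [morphismRestrict_appTop]
  show Z.presheaf.map _ (i.app (U.ι ''ᵁ ⊤) r) = 0 ↔ _
  have h1 : i.app U (U.topIso.hom r) =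
      Z.presheaf.map (eqToHom (congrArg (i ⁻¹ᵁ ·) U.ι_image_top.symm)).op (i.app (U.ι ''ᵁ ⊤) r) := by
    rw [Scheme.Opens.topIso_hom]
    exact congr($(i.naturality (eqToHom U.ι_image_top.symm).op) r)
  rw [h1]
  constructor <;> intro h
  · have h2 : i.app (U.ι ''ᵁ ⊤) r = 0 :=
      (ConcreteCategory.bijective_of_isIso (Z.presheaf.map
        (eqToHom (image_morphismRestrict_preimage i U ⊤)).op)).1 (h.trans (map_zero _).symm)
    rw [h2, map_zero]
  · have h2 : i.app (U.ι ''ᵁ ⊤) r = 0 :=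
      (ConcreteCategory.bijective_of_isIso (Z.presheaf.map
        (eqToHom (congrArg (i ⁻¹ᵁ ·) U.ι_image_top.symm)).op)).1 (h.trans (map_zero _).symm)
    rw [h2, map_zero]

/-- Base change of a map that is a closed immersion over an affine open: over an affine open of
the preimage it is again a closed immersion, whose ideal is the extension of the original one. -/
theorem restrict_baseChange {i : Z ⟶ X} {i' : P ⟶ X'} {g : X' ⟶ X} {h : P ⟶ Z}
    (H : IsPullback h i' i g) {U : X.Opens} (hU : IsAffineOpen U) (hcl : IsClosedImmersion (i ∣_ U))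
    {W : X'.Opens} (hW : IsAffineOpen W) (e : W ≤ g ⁻¹ᵁ U) :
    IsClosedImmersion (i' ∣_ W) ∧
      RingHom.ker (i'.app W).hom = (RingHom.ker (i.app U).hom).map (g.appLE U W e).hom := by
  haveI := hcl
  have hle : i' ⁻¹ᵁ W ≤ h ⁻¹ᵁ (i ⁻¹ᵁ U) := fun p hp => by
    show (h ≫ i) p ∈ U
    rw [H.w]; exact e hp
  have sq : IsPullback (h.resLE (i ⁻¹ᵁ U) (i' ⁻¹ᵁ W) hle) (i' ∣_ W) (i ∣_ U) (g.resLE U W e) := by
    refine .of_right ?_ ?_ (isPullback_morphismRestrict i U).flip
    · have h1 := (isPullback_morphismRestrict i' W).flip.paste_horiz H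
      simpa only [Scheme.Hom.resLE_comp_ι] using h1
    · rw [← cancel_mono U.ι, Category.assoc, morphismRestrict_ι, Scheme.Hom.resLE_comp_ι_assoc,
        Category.assoc, Scheme.Hom.resLE_comp_ι, morphismRestrict_ι_assoc, H.w]
  have hcl' : IsClosedImmersion (i' ∣_ W) := MorphismProperty.of_isPullback (P := @IsClosedImmersion) sq hcl
  haveI := hcl'
  refine ⟨hcl', ?_⟩
  have hker : (i' ∣_ W).ker = (i ∣_ U).ker.comap (g.resLE U W e) := by
    rw [← Scheme.IdealSheafData.ker_fst_of_isClosedImmersion, ← sq.flip.isoPullback_hom_fst,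
      Scheme.Hom.ker_comp_of_isIso]
  haveI : IsAffine U.toScheme := hU
  haveI : IsAffine W.toScheme := hW
  have h2 := H29Blow.ideal_comap (i ∣_ U).ker (g.resLE U W e) ⟨⊤, isAffineOpen_top _⟩ ⟨⊤, isAffineOpen_top _⟩ le_top
  rw [← hker, restrict_ker_top i U hU, restrict_ker_top i' W hW] at h2
  rw [show (g.resLE U W e).appLE ⊤ ⊤ le_top = U.topIso.hom ≫ g.appLE U W e ≫ W.topIso.inv by
    rw [← Scheme.Hom.resLE_app_top, Scheme.Hom.app_eq_appLE]; rfl] at h2
  apply_fun Ideal.map W.topIso.hom.hom at h2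
  rw [Ideal.map_comap_of_surjective _ (ConcreteCategory.bijective_of_isIso W.topIso.hom).2,
    Ideal.map_map, ← CommRingCat.hom_comp] at h2
  simp only [Category.assoc, Iso.inv_hom_id, Category.comp_id] at h2
  rw [CommRingCat.hom_comp, ← Ideal.map_map,
    Ideal.map_comap_of_surjective _ (ConcreteCategory.bijective_of_isIso U.topIso.hom).2] at h2
  exact h2

end Groth.Agent.H29Slice
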