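import Groth.Agent.H29Slice.SeqOps
import Groth.Agent.H29Slice.RestrictKer
import Groth.Agent.H29Slice.QuasiReg
import Mathlib

/-!
# Relative quasi-regular and `H₁`-regular immersions: shrinking and base change
-/

set_option autoImplicit false
set_option linter.style.haveILetI false
universe u

open AlgebraicGeometry CategoryTheory CategoryTheory.Limits TopologicalSpace

namespace Groth.Agent.H29Slice

variable {X X' Z S S' : Scheme.{u}}

/-- A map that is a closed immersion over an affine open: affine preimage, surjective on sections. -/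
theorem preimage_affine_and_surjective (i : Z ⟶ X) {U : X.Opens} (hU : IsAffineOpen U)
    (hcl : IsClosedImmersion (i ∣_ U)) :
    IsAffineOpen (i ⁻¹ᵁ U) ∧ Function.Surjective (i.app U).hom := by
  haveI := hcl
  haveI : IsAffine U.toScheme := hU
  refine ⟨isAffine_of_isAffineHom (i ∣_ U), ?_⟩
  have h := (IsClosedImmersion.isAffine_surjective_of_isAffine (f := i ∣_ U)).2
  rw [Scheme.Hom.appTop, morphismRestrict_app] at h
  have h1 : Function.Surjective (i.app (U.ι ''ᵁ ⊤)).hom := fun w => by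
    obtain ⟨v, hv⟩ := h ((Z.presheaf.map (eqToHom (image_morphismRestrict_preimage i U ⊤)).op).hom w)
    exact ⟨v, (ConcreteCategory.bijective_of_isIso (Z.presheaf.map (eqToHom (image_morphismRestrict_preimage i U ⊤)).op)).1 hv⟩
  have key : ∀ U' : X.Opens, U' = U.ι ''ᵁ ⊤ → Function.Surjective (i.app U').hom := by
    rintro _ rfl; exact h1
  exact key _ U.ι_image_top.symm

/-- The data of a regular immersion at a point can be shrunk into any open. -/
theorem exists_shrink {k : RegImm.Kind} (hk : k = RegImm.Kind.h1 ∨ k = RegImm.Kind.quasi)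
    (i : Z ⟶ X) (z : Z) (hi : RegImm.IsRegularImmersionAt k i z) (O : X.Opens) (hO : i z ∈ O) :
    ∃ (U : X.affineOpens), i z ∈ U.1 ∧ U.1 ≤ O ∧ IsClosedImmersion (i ∣_ U.1) ∧
      ∃ rs : List Γ(X, U.1), k.Seq Γ(X, U.1) rs ∧ RingHom.ker (i.app U.1).hom = Ideal.ofList rs := by
  obtain ⟨U, hz, hcl, rs, hrs, hker⟩ := hi
  obtain ⟨b, hb, hzb⟩ := U.2.exists_basicOpen_le ⟨i z, hO⟩ hz
  have hle := X.basicOpen_le b
  have H : IsPullback (𝟙 Z) i i (𝟙 X) := IsPullback.of_horiz_isIso ⟨by simp⟩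
  obtain ⟨hcl', hker'⟩ := restrict_baseChange H U.2 hcl (U.2.basicOpen b) (e := hle)
  refine ⟨⟨X.basicOpen b, U.2.basicOpen b⟩, hzb, hb, hcl',
    rs.map (X.presheaf.map (homOfLE hle).op).hom, ?_, ?_⟩
  · letI : Algebra Γ(X, U.1) Γ(X, X.basicOpen b) := (X.presheaf.map (homOfLE hle).op).hom.toAlgebra
    haveI : IsLocalization.Away b Γ(X, X.basicOpen b) := U.2.isLocalization_basicOpen b
    exact seq_localization hk (Submonoid.powers b) hrs
  · rw [hker', hker, Ideal.map_ofList]
    simp only [Scheme.Hom.appLE, Scheme.Hom.id_app]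
    rfl

/-- The quotient by the ideal of an immersion with flat composite is flat. -/
theorem flat_quotient_ker (f : X ⟶ S) (i : Z ⟶ X) [Flat (i ≫ f)] {U : X.Opens} (hU : IsAffineOpen U)
    (hcl : IsClosedImmersion (i ∣_ U)) {V : S.Opens} (hV : IsAffineOpen V) (e : U ≤ f ⁻¹ᵁ V) :
    letI := (f.appLE V U e).hom.toAlgebra
    Module.Flat Γ(S, V) (Γ(X, U) ⧸ RingHom.ker (i.app U).hom) := by
  letI := (f.appLE V U e).hom.toAlgebra
  obtain ⟨hpre, hsurj⟩ := preimage_affine_and_surjective i hU hcl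
  let eq := RingHom.quotientKerEquivOfSurjective hsurj
  have h1 : ((i ≫ f).appLE V (i ⁻¹ᵁ U) (fun y hy => e hy)).hom.Flat :=
    HasRingHomProperty.appLE @Flat (i ≫ f) inferInstance ⟨V, hV⟩ ⟨_, hpre⟩ _
  rw [← Scheme.Hom.appLE_comp_appLE i f V U (i ⁻¹ᵁ U) e le_rfl, ← Scheme.Hom.app_eq_appLE,
    CommRingCat.hom_comp] at h1
  refine RingHom.flat_algebraMap_iff.mp ?_
  have h2 : algebraMap Γ(S, V) (Γ(X, U) ⧸ RingHom.ker (i.app U).hom) =
      eq.symm.toRingHom.comp ((i.app U).hom.comp (f.appLE V U e).hom) := by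
    refine RingHom.ext fun a => eq.injective ?_
    show _ = eq (eq.symm _)
    rw [RingEquiv.apply_symm_apply]
    rfl
  rw [h2]
  exact RingHom.Flat.comp h1 (RingHom.Flat.of_bijective eq.symm.bijective)

/-- Base change of a relative quasi-regular or `H₁`-regular immersion. -/
theorem relRegular_baseChange (f : X ⟶ S) (i : Z ⟶ X) {k : RegImm.Kind}
    (hk : k = RegImm.Kind.h1 ∨ k = RegImm.Kind.quasi) (hi : RegImm.IsRelRegularImmersion k f i)
    (g : S' ⟶ S) :
    RegImm.IsRelRegularImmersion k (pullback.snd f g) (pullback.snd i (pullback.fst f g)) := by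
  obtain ⟨⟨himm, hreg⟩, hflat⟩ := hi
  haveI := himm
  haveI := hflat
  let pr := pullback.fst f g
  let q := pullback.snd f g
  let i' := pullback.snd i pr
  refine ⟨⟨MorphismProperty.pullback_snd (P := @IsImmersion) i pr himm, fun z' => ?_⟩,
    MorphismProperty.of_isPullback (P := @Flat)
      ((IsPullback.of_hasPullback i pr).paste_vert (IsPullback.of_hasPullback f g)) hflat⟩
  let H : IsPullback (pullback.fst i pr) i' i pr := IsPullback.of_hasPullback i pr
  let z := pullback.fst i pr z'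
  have hzz : pr (i' z') = i z := by
    rw [← Scheme.Hom.comp_apply, ← H.w]; rfl
  obtain ⟨V, hV, hxV, -⟩ := exists_isAffineOpen_mem_and_subset (Opens.mem_top (f (i z)))
  obtain ⟨U, hzU, hUV, hcl, rs, hrs, hker⟩ := exists_shrink hk i z (hreg z) (f ⁻¹ᵁ V) hxV
  have hq : g (q (i' z')) ∈ V := by
    rw [← Scheme.Hom.comp_apply, ← pullback.condition, Scheme.Hom.comp_apply, hzz]; exact hxV
  obtain ⟨V', hV', hxV', hV'le⟩ := exists_isAffineOpen_mem_and_subset (U := g ⁻¹ᵁ V) (x := q (i' z')) hq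
  let W := pr ⁻¹ᵁ U.1 ⊓ q ⁻¹ᵁ V'
  have HS := IsPullback.of_hasPullback f g
  haveI := isIso_pushoutSection_of_isAffineOpen (UY := W) HS hV'le hUV rfl hV hV' U.2
  have hW : IsAffineOpen W := by
    haveI : IsAffine V := hV
    haveI : IsAffine V' := hV'
    haveI : IsAffine U.1.toScheme := U.2
    exact .of_isIso (Scheme.Hom.isPullback_resLE HS hV'le hUV (rfl : W = _)).isoPullback.hom
  have hpush := (isIso_pushoutSection_iff (UY := W) HS hV'le hUV rfl).mp inferInstance
  obtain ⟨hcl', hker'⟩ := restrict_baseChange H U.2 hcl hW (e := inf_le_left)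
  refine ⟨⟨W, hW⟩, ⟨show pr (i' z') ∈ U.1 from hzz ▸ hzU, hxV'⟩, hcl',
    rs.map (pr.appLE U.1 W inf_le_left).hom, ?_, ?_⟩
  · letI := (f.appLE V U.1 hUV).hom.toAlgebra
    letI := (g.appLE V V' hV'le).hom.toAlgebra
    letI := (pr.appLE U.1 W inf_le_left).hom.toAlgebra
    letI := (q.appLE V' W inf_le_right).hom.toAlgebra
    letI : Algebra Γ(S, V) Γ(pullback f g, W) :=
      (f.appLE V U.1 hUV ≫ pr.appLE U.1 W inf_le_left).hom.toAlgebra
    haveI : IsScalarTower Γ(S, V) Γ(X, U.1) Γ(pullback f g, W) := IsScalarTower.of_algebraMap_eq' rfl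
    haveI : IsScalarTower Γ(S, V) Γ(S', V') Γ(pullback f g, W) :=
      IsScalarTower.of_algebraMap_eq' (congrArg CommRingCat.Hom.hom hpush.w)
    haveI : Algebra.IsPushout Γ(S, V) Γ(S', V') Γ(X, U.1) Γ(pullback f g, W) :=
      CommRingCat.isPushout_iff_isPushout.mp hpush.flip
    haveI : Module.Flat Γ(S, V) (Γ(X, U.1) ⧸ Ideal.ofList rs) := hker ▸ flat_quotient_ker f i U.2 hcl hV hUV
    exact seq_pushout hk Γ(S, V) Γ(X, U.1) Γ(S', V') Γ(pullback f g, W) hrs
  · rw [hker', hker, Ideal.map_ofList]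

end Groth.Agent.H29Slice
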