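import Groth.Agent.H29Slice.TransReg
import Groth.Agent.H29Slice.RegImm
import Groth.Agent.H29Blow.PointsOfAffine
import Mathlib

/-!
# Base change of transversally regular sequences and immersions
-/

set_option autoImplicit false
set_option linter.style.haveILetI false
universe u

open AlgebraicGeometry CategoryTheory CategoryTheory.Limits TopologicalSpace RingTheory.Sequence
open scoped TensorProduct Pointwise

namespace Groth.Agent.H29Slice

/-- A weakly regular sequence, elementwise. -/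
theorem isWeaklyRegular_iff_elementwise {R : Type u} [CommRing R] (rs : List R) :
    IsWeaklyRegular R rs ↔ ∀ (i : ℕ) (h : i < rs.length) (x : R),
      rs[i] * x ∈ Ideal.ofList (rs.take i) → x ∈ Ideal.ofList (rs.take i) := by
  rw [isWeaklyRegular_iff]
  refine forall₂_congr fun i h => ?_
  have e : (Ideal.ofList (rs.take i) • (⊤ : Submodule R R)) = Ideal.ofList (rs.take i) := Ideal.mul_top _
  rw [e, isSMulRegular_quotient_iff_mem_of_smul_mem]
  exact Iff.rfl

/-- Weak regularity of a transversally regular sequence survives base change. -/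
theorem isWeaklyRegular_baseChange (A B A' : Type u) [CommRing A] [CommRing B] [CommRing A']
    [Algebra A B] [Algebra A A'] {rs : List B} (h : RegImm.IsTransRegularSeq A B rs) :
    IsWeaklyRegular (A' ⊗[A] B) (rs.map fun b => (1 : A') ⊗ₜ[A] b) := by
  rw [isWeaklyRegular_iff_elementwise]
  intro j hj y hy
  rw [List.length_map] at hj
  rw [List.getElem_map] at hy
  let inc : B →ₐ[A] A' ⊗[A] B := Algebra.TensorProduct.includeRight
  have hspan : Ideal.ofList ((rs.map fun b => (1 : A') ⊗ₜ[A] b).take j) = (Ideal.ofList (rs.take j)).map inc := by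
    rw [← List.map_take]
    exact (Ideal.map_ofList inc.toRingHom _).symm
  rw [hspan] at hy ⊢
  set I := Ideal.ofList (rs.take j) with hI
  set x := rs[j] with hx
  let q : A' ⊗[A] B →ₗ[A] A' ⊗[A] (B ⧸ I) := (Ideal.Quotient.mkₐ A I).toLinearMap.lTensor A'
  have hq0 : ∀ z : A' ⊗[A] B, q z = 0 ↔ z ∈ I.map inc := fun z => by
    have h := Algebra.TensorProduct.lTensor_ker (R := A) (A := A') (Ideal.Quotient.mkₐ A I)
      (Ideal.Quotient.mkₐ_surjective A I)
    have hk : RingHom.ker (Ideal.Quotient.mkₐ A I) = I := Ideal.Quotient.mkₐ_ker A I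
    rw [hk] at h
    exact (Iff.of_eq (congrArg (z ∈ ·) h))
  let m : (B ⧸ I) →ₗ[A] B ⧸ I := LinearMap.mulLeft A (Ideal.Quotient.mk I x)
  have hsucc : Ideal.ofList (rs.take (j + 1)) = I ⊔ Ideal.span {x} := by
    rw [List.take_succ_eq_append_getElem hj, Ideal.ofList_append, Ideal.ofList_singleton]
  have hIle : I ≤ Ideal.ofList (rs.take (j + 1)) := hsucc ▸ le_sup_left
  let p : (B ⧸ I) →ₗ[A] B ⧸ Ideal.ofList (rs.take (j + 1)) := (Ideal.Quotient.factorₐ A hIle).toLinearMap
  have hp : Function.Surjective p := fun z => by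
    obtain ⟨b, rfl⟩ := Ideal.Quotient.mk_surjective z
    exact ⟨Ideal.Quotient.mk _ b, rfl⟩
  have hm : Function.Injective m := by
    rw [injective_iff_map_eq_zero]
    intro z hz
    obtain ⟨b, rfl⟩ := Ideal.Quotient.mk_surjective z
    rw [show m (Ideal.Quotient.mk I b) = Ideal.Quotient.mk I (x * b) from (map_mul _ _ _).symm,
      Ideal.Quotient.eq_zero_iff_mem] at hz
    exact Ideal.Quotient.eq_zero_iff_mem.mpr ((isWeaklyRegular_iff_elementwise rs).mp h.1 j hj b hz)
  have hex : Function.Exact m p := by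
    intro z
    obtain ⟨b, rfl⟩ := Ideal.Quotient.mk_surjective z
    show Ideal.Quotient.mk _ b = 0 ↔ _
    rw [Ideal.Quotient.eq_zero_iff_mem, hsucc]
    constructor
    · intro hb
      obtain ⟨a, ha, c, hc, rfl⟩ := Submodule.mem_sup.mp hb
      obtain ⟨d, rfl⟩ := Ideal.mem_span_singleton'.mp hc
      refine ⟨Ideal.Quotient.mk I d, ?_⟩
      show Ideal.Quotient.mk I x * Ideal.Quotient.mk I d = _
      rw [← map_mul, Ideal.Quotient.eq, mul_comm x d]
      simpa using I.neg_mem ha
    · rintro ⟨w, hw⟩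
      obtain ⟨d, rfl⟩ := Ideal.Quotient.mk_surjective w
      have h1 : x * d - b ∈ I := Ideal.Quotient.eq.mp ((map_mul _ _ _).trans hw)
      rw [show b = x * d - (x * d - b) by ring]
      exact sub_mem (Ideal.mem_sup_right (Ideal.mul_mem_right _ _ (Ideal.mem_span_singleton_self x)))
        (Ideal.mem_sup_left h1)
  haveI := h.2 (j + 1) hj
  have hinj : Function.Injective (m.lTensor A') :=
    LinearMap.lTensor_injective_of_exact_of_flat p hp m hm hex A'
  have hmul : ∀ z : A' ⊗[A] B, m.lTensor A' (q z) = q (((1 : A') ⊗ₜ[A] x) * z) := by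
    intro z
    induction z with
    | zero => simp
    | tmul a b =>
      rw [Algebra.TensorProduct.tmul_mul_tmul, one_mul]
      show a ⊗ₜ[A] (Ideal.Quotient.mk I x * Ideal.Quotient.mk I b) = a ⊗ₜ[A] Ideal.Quotient.mk I (x * b)
      rw [map_mul]
    | add u v hu hv => simp only [map_add, hu, hv, mul_add]
  refine (hq0 y).mp (hinj ?_)
  rw [map_zero, hmul]
  exact (hq0 _).mpr hy

/-- Weak regularity of a transversally regular sequence in a pushout. -/
theorem isWeaklyRegular_pushout (A B A' B' : Type u) [CommRing A] [CommRing B] [CommRing A'] [CommRing B']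
    [Algebra A B] [Algebra A A'] [Algebra A B'] [Algebra A' B'] [Algebra B B'] [IsScalarTower A A' B']
    [IsScalarTower A B B'] [Algebra.IsPushout A A' B B'] {rs : List B}
    (h : RegImm.IsTransRegularSeq A B rs) : IsWeaklyRegular B' (rs.map (algebraMap B B')) := by
  let e := Algebra.IsPushout.equiv A A' B B'
  refine (AddEquiv.isWeaklyRegular_congr (e := e.toAddEquiv) ?_).mp (isWeaklyRegular_baseChange A B A' h)
  rw [List.forall₂_map_left_iff, List.forall₂_map_right_iff, List.forall₂_same]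
  intro r _ x
  show e (((1 : A') ⊗ₜ[A] r) * x) = algebraMap B B' r * e x
  rw [map_mul, Algebra.IsPushout.equiv_tmul, map_one, one_mul]

variable {X Z S : Scheme.{u}}

/-- A weakly regular sequence generating the ideal of an immersion at a point of it is regular. -/
theorem isRegular_of_mem (i : Z ⟶ X) (z : Z) {U : X.Opens} (hz : i z ∈ U) {rs : List Γ(X, U)}
    (hw : IsWeaklyRegular Γ(X, U) rs) (hker : RingHom.ker (i.app U).hom = Ideal.ofList rs) :
    IsRegular Γ(X, U) rs := by
  refine ⟨hw, ?_⟩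
  rw [smul_eq_mul, Ideal.mul_top, ← hker]
  intro h
  have h1 : i.app U 1 = 0 := (h ▸ Submodule.mem_top : (1 : Γ(X, U)) ∈ RingHom.ker (i.app U).hom)
  rw [map_one] at h1
  have h2 := congrArg (Z.presheaf.germ (i ⁻¹ᵁ U) z hz) h1
  rw [map_one, map_zero] at h2
  exact one_ne_zero h2

/-- A relative quasi-regular immersion into a flat, locally finitely presented scheme is
transversally regular. -/
theorem exists_transReg_scheme (f : X ⟶ S) [Flat f] [LocallyOfFinitePresentation f] (i : Z ⟶ X)
    (hi : RegImm.IsRelRegularImmersion RegImm.Kind.quasi f i) (z : Z) :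
    RegImm.IsTransRegularImmersionAt f i z := by
  obtain ⟨⟨himm, hreg⟩, hflat⟩ := hi
  haveI := hflat
  obtain ⟨V, hV, hxV, -⟩ := exists_isAffineOpen_mem_and_subset (Opens.mem_top (f (i z)))
  obtain ⟨U, hzU, e, hcl, rs, hrs, hker⟩ := exists_shrink (Or.inr rfl) i z (hreg z) (f ⁻¹ᵁ V) hxV
  letI := (f.appLE V U.1 e).hom.toAlgebra
  haveI : Algebra.FinitePresentation Γ(S, V) Γ(X, U.1) :=
    LocallyOfFinitePresentation.finitePresentation_appLE f hV U.2 e
  haveI : Module.Flat Γ(S, V) Γ(X, U.1) := _root_.H29Blow.flat_appLE' f ⟨V, hV⟩ U e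
  have hspan : Ideal.span (Set.range rs.get) = RingHom.ker (i.app U.1).hom := by
    rw [hker, Ideal.ofList, Set.range_list_get]
  have hfl : Module.Flat Γ(S, V) (Γ(X, U.1) ⧸ Ideal.span (Set.range rs.get)) :=
    hspan ▸ flat_quotient_ker f i U.2 hcl hV e
  let q := U.2.primeIdealOf ⟨i z, hzU⟩
  have hq : ∀ j, rs.get j ∈ q.asIdeal := fun j => by
    refine (_root_.H29Blow.mem_primeIdealOf_iff U.2 ⟨i z, hzU⟩ _).mpr fun hu => ?_
    have h0 : i.app U.1 (rs.get j) = 0 := hspan.le (Ideal.subset_span ⟨j, rfl⟩)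
    have h1 := hu.map (i.stalkMap z).hom
    erw [Scheme.Hom.germ_stalkMap_apply, h0, map_zero] at h1
    exact not_isUnit_zero h1
  obtain ⟨b, hb, hL⟩ := exists_transReg (A := Γ(S, V)) Γ(X, U.1) rs.get hrs hfl q hq
  have hzb : i z ∈ X.basicOpen b := by
    have h0 : q ∈ U.2.fromSpec ⁻¹ᵁ X.basicOpen b := by
      rw [U.2.fromSpec_preimage_basicOpen b]; exact hb
    have h1 : U.2.fromSpec q = i z := U.2.fromSpec_primeIdealOf ⟨i z, hzU⟩
    rw [← h1]; exact h0
  have hle := X.basicOpen_le b
  have H : IsPullback (𝟙 Z) i i (𝟙 X) := IsPullback.of_horiz_isIso ⟨by simp⟩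
  obtain ⟨hcl', hker'⟩ := restrict_baseChange H U.2 hcl (U.2.basicOpen b) (e := hle)
  refine ⟨⟨X.basicOpen b, U.2.basicOpen b⟩, ⟨V, hV⟩, hle.trans e, hzb, hcl',
    rs.map (X.presheaf.map (homOfLE hle).op).hom, ?_, ?_⟩
  · letI : Algebra Γ(X, U.1) Γ(X, X.basicOpen b) := (X.presheaf.map (homOfLE hle).op).hom.toAlgebra
    letI : Algebra Γ(S, V) Γ(X, X.basicOpen b) := (f.appLE V (X.basicOpen b) (hle.trans e)).hom.toAlgebra
    haveI : IsScalarTower Γ(S, V) Γ(X, U.1) Γ(X, X.basicOpen b) := IsScalarTower.of_algebraMap_eq' (by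
      show (f.appLE V (X.basicOpen b) _).hom = (f.appLE V U.1 e ≫ X.presheaf.map (homOfLE hle).op).hom
      rw [Scheme.Hom.appLE_map])
    haveI : IsLocalization.Away b Γ(X, X.basicOpen b) := U.2.isLocalization_basicOpen b
    have := hL Γ(X, X.basicOpen b)
    rw [List.ofFn_get] at this
    exact this
  · rw [hker', hker, Ideal.map_ofList]
    simp only [Scheme.Hom.appLE, Scheme.Hom.id_app]
    rfl

/-- Transversally regular immersions are regular. -/
theorem isRegularImmersionAt_of_transReg (f : X ⟶ S) (i : Z ⟶ X) (z : Z)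
    (h : RegImm.IsTransRegularImmersionAt f i z) :
    RegImm.IsRegularImmersionAt RegImm.Kind.regular i z := by
  obtain ⟨U, V, e, hz, hcl, rs, hrs, hker⟩ := h
  exact ⟨U, hz, hcl, rs, isRegular_of_mem i z hz hrs.1 hker, hker⟩

/-- Transversally regular immersions are regular after every base change. -/
theorem isRegularImmersion_baseChange_of_transReg (f : X ⟶ S) (i : Z ⟶ X) [IsImmersion i]
    (h : ∀ z, RegImm.IsTransRegularImmersionAt f i z) {S' : Scheme.{u}} (g : S' ⟶ S) :
    RegImm.IsRegularImmersion RegImm.Kind.regular (pullback.snd i (pullback.fst f g)) := by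
  let pr := pullback.fst f g
  let q := pullback.snd f g
  let i' := pullback.snd i pr
  refine ⟨MorphismProperty.pullback_snd (P := @IsImmersion) i pr inferInstance, fun z' => ?_⟩
  let H : IsPullback (pullback.fst i pr) i' i pr := IsPullback.of_hasPullback i pr
  obtain ⟨U, V, e, hzU, hcl, rs, hrs, hker⟩ := h (pullback.fst i pr z')
  have hzz : pr (i' z') = i (pullback.fst i pr z') := by
    rw [← Scheme.Hom.comp_apply, ← H.w]; rfl
  have hq : g (q (i' z')) ∈ V.1 := by
    rw [← Scheme.Hom.comp_apply, ← pullback.condition, Scheme.Hom.comp_apply, hzz]; exact e hzU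
  obtain ⟨V', hV', hxV', hV'le⟩ := exists_isAffineOpen_mem_and_subset (U := g ⁻¹ᵁ V.1) (x := q (i' z')) hq
  let W := pr ⁻¹ᵁ U.1 ⊓ q ⁻¹ᵁ V'
  have HS := IsPullback.of_hasPullback f g
  haveI := isIso_pushoutSection_of_isAffineOpen (UY := W) HS hV'le e rfl V.2 hV' U.2
  have hW : IsAffineOpen W := by
    haveI : IsAffine V.1.toScheme := V.2
    haveI : IsAffine V'.toScheme := hV'
    haveI : IsAffine U.1.toScheme := U.2
    exact .of_isIso (Scheme.Hom.isPullback_resLE HS hV'le e (rfl : W = _)).isoPullback.hom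
  have hpush := (isIso_pushoutSection_iff (UY := W) HS hV'le e rfl).mp inferInstance
  obtain ⟨hcl', hker'⟩ := restrict_baseChange H U.2 hcl hW (e := inf_le_left)
  have hker'' : RingHom.ker (i'.app W).hom = Ideal.ofList (rs.map (pr.appLE U.1 W inf_le_left).hom) := by
    rw [hker', hker, Ideal.map_ofList]
  have hzW : i' z' ∈ W := ⟨show pr (i' z') ∈ U.1 from hzz ▸ hzU, hxV'⟩
  refine ⟨⟨W, hW⟩, hzW, hcl', _, isRegular_of_mem i' z' hzW ?_ hker'', hker''⟩
  letI := (f.appLE V.1 U.1 e).hom.toAlgebra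
  letI := (g.appLE V.1 V' hV'le).hom.toAlgebra
  letI := (pr.appLE U.1 W inf_le_left).hom.toAlgebra
  letI := (q.appLE V' W inf_le_right).hom.toAlgebra
  letI : Algebra Γ(S, V.1) Γ(pullback f g, W) :=
    (f.appLE V.1 U.1 e ≫ pr.appLE U.1 W inf_le_left).hom.toAlgebra
  haveI : IsScalarTower Γ(S, V.1) Γ(X, U.1) Γ(pullback f g, W) := IsScalarTower.of_algebraMap_eq' rfl
  haveI : IsScalarTower Γ(S, V.1) Γ(S', V') Γ(pullback f g, W) :=
    IsScalarTower.of_algebraMap_eq' (congrArg CommRingCat.Hom.hom hpush.w)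
  haveI : Algebra.IsPushout Γ(S, V.1) Γ(S', V') Γ(X, U.1) Γ(pullback f g, W) :=
    CommRingCat.isPushout_iff_isPushout.mp hpush.flip
  exact isWeaklyRegular_pushout Γ(S, V.1) Γ(X, U.1) Γ(S', V') Γ(pullback f g, W) hrs

end Groth.Agent.H29Slice
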