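import Groth.Agent.H06DiffOp.DividedPower
import Groth.Agent.H29Slice.TransBC
import Mathlib

/-!
# Sections of smooth algebras are cut out by regular sequences
-/

set_option autoImplicit false
set_option linter.style.haveILetI false
set_option maxHeartbeats 400000
universe u

open RingTheory.Sequence MvPolynomial
open scoped TensorProduct

namespace Groth.Agent.H29Slice

/-- The variables followed by a weakly regular sequence of constants are weakly regular. -/
theorem isWeaklyRegular_X_append (A : Type u) [CommRing A] (n : ℕ) {rs : List A} (hrs : IsWeaklyRegular A rs) :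
    IsWeaklyRegular (MvPolynomial (Fin n) A)
      (List.ofFn (fun i : Fin n => (X i : MvPolynomial (Fin n) A)) ++ rs.map C) := by
  rw [isWeaklyRegular_iff_elementwise]
  rw [isWeaklyRegular_iff_elementwise] at hrs
  intro j hj x hx
  have hlen : (List.ofFn (fun i : Fin n => (X i : MvPolynomial (Fin n) A))).length = n := List.length_ofFn
  have hXspan : ∀ m : ℕ, m ≤ n →
      Ideal.ofList ((List.ofFn (fun i : Fin n => (X i : MvPolynomial (Fin n) A))).take m) =
        Ideal.span (X '' {i : Fin n | i.1 < m}) := by
    intro m hm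
    refine congrArg Ideal.span (Set.ext fun p => ?_)
    simp only [Set.mem_setOf_eq, Set.mem_image, List.mem_take_iff_getElem]
    constructor
    · rintro ⟨i, hi, rfl⟩
      rw [hlen] at hi
      exact ⟨⟨i, by omega⟩, show i < m by omega, (List.getElem_ofFn _).symm⟩
    · rintro ⟨i, hi, rfl⟩
      exact ⟨i.1, by rw [hlen]; omega, List.getElem_ofFn _⟩
  by_cases hjn : j < n
  · rw [List.getElem_append_left (by omega), List.getElem_ofFn] at hx
    rw [List.take_append_of_le_length (by omega), hXspan j hjn.le] at hx ⊢
    rw [mem_ideal_span_X_image] at hx ⊢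
    intro m hm
    obtain ⟨i, hi, hne⟩ := hx (Finsupp.single ⟨j, hjn⟩ 1 + m) (by
      rw [mem_support_iff, coeff_X_mul]
      exact mem_support_iff.1 hm)
    refine ⟨i, hi, fun h => hne ?_⟩
    have : i ≠ ⟨j, hjn⟩ := fun e => by subst e; exact lt_irrefl j hi
    simp [h, this.symm]
  · push Not at hjn
    have hj' : j - n < rs.length := by simp at hj; omega
    rw [List.getElem_append_right (by omega)] at hx
    simp only [List.getElem_map, hlen] at hx
    simp only [List.take_append, hlen] at hx ⊢
    rw [List.take_of_length_le (by omega)] at hx ⊢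
    rw [Ideal.ofList_append, ← List.map_take, ← Ideal.map_ofList] at hx ⊢
    have h0 := Ideal.mem_map_of_mem (constantCoeff : MvPolynomial (Fin n) A →+* A) hx
    have hc : (constantCoeff : MvPolynomial (Fin n) A →+* A).comp C = RingHom.id A :=
      RingHom.ext fun a => constantCoeff_C _ a
    have hX0 : (Ideal.ofList (List.ofFn (fun i : Fin n => (X i : MvPolynomial (Fin n) A)))).map
        (constantCoeff : MvPolynomial (Fin n) A →+* A) = ⊥ := by
      rw [Ideal.map_ofList, List.map_ofFn, eq_bot_iff]
      refine Ideal.span_le.2 fun a ha => ?_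
      simp only [Set.mem_setOf_eq, List.mem_ofFn] at ha
      obtain ⟨i, rfl⟩ := ha
      simp
    rw [Ideal.map_sup, Ideal.map_map, hc, Ideal.map_id, hX0, bot_sup_eq, map_mul, constantCoeff_C] at h0
    have h1 := hrs (j - n) hj' _ h0
    have hsub : x - C (constantCoeff x) ∈
        Ideal.ofList (List.ofFn (fun i : Fin n => (X i : MvPolynomial (Fin n) A))) := by
      have h2 := hXspan n le_rfl
      rw [List.take_of_length_le hlen.le] at h2
      rw [h2, mem_ideal_span_X_image]
      intro m hm
      by_contra hne
      push Not at hne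
      have hm0 : m = 0 := Finsupp.ext fun i => hne i i.2
      rw [mem_support_iff, hm0, coeff_sub, coeff_C, if_pos rfl] at hm
      exact hm (sub_self _)
    rw [← sub_add_cancel x (C (constantCoeff x))]
    exact Submodule.add_mem_sup hsub (Ideal.mem_map_of_mem _ h1)

/-- A closed subscheme of a smooth algebra mapping isomorphically onto a closed subscheme cut out by a
regular sequence is itself cut out by a regular sequence. -/
theorem exists_regular_near_section (A B : Type u) [CommRing A] [CommRing B] [Algebra A B]
    [Algebra.Smooth A B] (rs : List A) (hrs : IsWeaklyRegular A rs) (J : Ideal B)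
    (hI : ∀ a, algebraMap A B a ∈ J ↔ a ∈ Ideal.ofList rs)
    (hsurj : ∀ b, ∃ a, b - algebraMap A B a ∈ J) (q : Ideal B) [q.IsPrime] (hJq : J ≤ q) :
    ∃ b ∉ q, ∃ ws : List (Localization.Away b), IsWeaklyRegular (Localization.Away b) ws ∧
      J.map (algebraMap B (Localization.Away b)) = Ideal.ofList ws ∧
      ws.length = Module.finrank (Localization.AtPrime q) (KaehlerDifferential A (Localization.AtPrime q)) +
        rs.length := by
  classical
  -- differentials of `J` generate
  have hspan : Submodule.span B (Set.range fun j : J => KaehlerDifferential.D A B j.1) = ⊤ := by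
    rw [eq_top_iff, ← KaehlerDifferential.span_range_derivation A B]
    refine Submodule.span_mono ?_
    rintro _ ⟨x, rfl⟩
    obtain ⟨a, ha⟩ := hsurj x
    exact ⟨⟨_, ha⟩, by simp⟩
  let Bq := Localization.AtPrime q
  let g := KaehlerDifferential.map A A B Bq
  haveI : IsLocalizedModule q.primeCompl g := KaehlerDifferential.isLocalizedModule_map A B Bq q.primeCompl
  haveI : Module.Finite Bq (KaehlerDifferential A Bq) := Module.Finite.of_isLocalizedModule q.primeCompl g
  haveI : Algebra.FormallyEtale B Bq := Algebra.FormallyEtale.of_isLocalization q.primeCompl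
  haveI : Algebra.FormallySmooth A Bq := Algebra.FormallySmooth.comp A B Bq
  haveI : Module.FinitePresentation Bq (KaehlerDifferential A Bq) :=
    Module.finitePresentation_of_projective Bq _
  have hspanq : Submodule.span Bq (Set.range fun j : J => g (KaehlerDifferential.D A B j.1)) = ⊤ := by
    have h := span_eq_top_of_isLocalizedModule Bq q.primeCompl g hspan
    rw [← Set.range_comp] at h
    exact h
  obtain ⟨κ, sel, b₀, hb₀⟩ := Module.exists_basis_of_span_of_flat _ hspanq
  haveI : Finite κ := Module.Finite.finite_basis b₀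
  haveI : Fintype κ := Fintype.ofFinite κ
  let n := Fintype.card κ
  let z : Fin n → B := fun i => (sel ((Fintype.equivFin κ).symm i)).1
  have hzJ : ∀ i, z i ∈ J := fun i => (sel ((Fintype.equivFin κ).symm i)).2
  let b₁ : Module.Basis (Fin n) Bq (KaehlerDifferential A Bq) := b₀.reindex (Fintype.equivFin κ)
  have hb₁ : ∀ i, b₁ i = g (KaehlerDifferential.D A B (z i)) := fun i => by
    rw [Module.Basis.reindex_apply, hb₀]
  let l : (Fin n → B) →ₗ[B] KaehlerDifferential A B :=
    Fintype.linearCombination B (fun i => KaehlerDifferential.D A B (z i))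
  let fM : (Fin n → B) →ₗ[B] (Fin n → Bq) := LinearMap.pi fun i => Algebra.linearMap B Bq ∘ₗ LinearMap.proj i
  haveI : IsLocalizedModule q.primeCompl fM := inferInstance
  have hlq : IsLocalizedModule.map q.primeCompl fM g l =
      (b₁.equivFun.symm.toLinearMap).restrictScalars B := by
    refine IsLocalizedModule.ext q.primeCompl fM (IsLocalizedModule.map_units g) ?_
    rw [IsLocalizedModule.map_comp]
    refine (Pi.basisFun B (Fin n)).ext fun i => ?_
    simp [l, fM, hb₁, Fintype.linearCombination_apply, Pi.single_apply, Finset.sum_ite_eq',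
      Module.Basis.equivFun_symm_apply]
  obtain ⟨r, hr, hr'⟩ := exists_bijective_map_powers q.primeCompl fM g l (by
    rw [hlq]; exact b₁.equivFun.symm.bijective)
  -- generation of the ideal near `q`
  let I := Ideal.ofList rs
  let K₀ : Ideal B := I.map (algebraMap A B) ⊔ Ideal.span (Set.range z)
  have hK₀ : K₀ ≤ J := sup_le (Ideal.map_le_iff_le_comap.2 fun a ha => (hI a).2 ha)
    (Ideal.span_le.2 (by rintro _ ⟨i, rfl⟩; exact hzJ i))
  let P₀ : Ideal B := J * J ⊔ K₀
  choose α hα using hsurj
  let δ₀ : B → B ⧸ P₀ := fun x => Ideal.Quotient.mk P₀ (x - algebraMap A B (α x))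
  have hwd : ∀ x a, x - algebraMap A B a ∈ J → δ₀ x = Ideal.Quotient.mk P₀ (x - algebraMap A B a) := by
    intro x a ha
    refine Ideal.Quotient.eq.2 (Ideal.mem_sup_right (Ideal.mem_sup_left ?_))
    rw [show x - algebraMap A B (α x) - (x - algebraMap A B a) = algebraMap A B (a - α x) by rw [map_sub]; ring]
    refine Ideal.mem_map_of_mem _ ((hI _).1 ?_)
    rw [show algebraMap A B (a - α x) = (x - algebraMap A B (α x)) - (x - algebraMap A B a) by rw [map_sub]; ring]
    exact sub_mem (hα x) ha
  let δl : B →ₗ[A] B ⧸ P₀ :=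
    { toFun := δ₀
      map_add' := fun x y => by
        rw [hwd (x + y) (α x + α y) (by rw [map_add, add_sub_add_comm]; exact add_mem (hα x) (hα y)),
          map_add, add_sub_add_comm, map_add]
      map_smul' := fun c x => by
        have e : c • x - algebraMap A B (c * α x) = algebraMap A B c * (x - algebraMap A B (α x)) := by
          rw [map_mul, Algebra.smul_def]; ring
        rw [hwd (c • x) (c * α x) (e ▸ Ideal.mul_mem_left _ _ (hα x)), e, map_mul]
        exact (Algebra.smul_def c (δ₀ x)).symm }
  let δ : Derivation A B (B ⧸ P₀) := Derivation.mk' δl fun x y => by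
    show δ₀ (x * y) = x • δ₀ y + y • δ₀ x
    have e : x * y - algebraMap A B (α x * α y) =
        x * (y - algebraMap A B (α y)) + y * (x - algebraMap A B (α x)) -
          (x - algebraMap A B (α x)) * (y - algebraMap A B (α y)) := by rw [map_mul]; ring
    have hmem : x * y - algebraMap A B (α x * α y) ∈ J := e ▸ sub_mem
      (add_mem (Ideal.mul_mem_left _ _ (hα y)) (Ideal.mul_mem_left _ _ (hα x))) (Ideal.mul_mem_left _ _ (hα y))
    rw [hwd _ _ hmem, e, map_sub, map_add, map_mul, map_mul,
      Ideal.Quotient.eq_zero_iff_mem.2 (Ideal.mem_sup_left (Ideal.mul_mem_mul (hα x) (hα y)) :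
        (x - algebraMap A B (α x)) * (y - algebraMap A B (α y)) ∈ P₀), sub_zero]
    rfl
  have hδJ : ∀ j ∈ J, δ j = Ideal.Quotient.mk P₀ j := fun j hj => by
    show δ₀ j = _
    rw [hwd j 0 (by simpa using hj), map_zero, sub_zero]
  have hstep : ∀ j ∈ J, ∃ s ∉ q, s * j ∈ P₀ := by
    intro j hj
    obtain ⟨c, hc⟩ := (show Function.Surjective (IsLocalizedModule.map q.primeCompl fM g l) by
      rw [hlq]; exact b₁.equivFun.symm.surjective) (g (KaehlerDifferential.D A B j))
    obtain ⟨⟨c₀, t⟩, hct⟩ := IsLocalizedModule.surj q.primeCompl fM c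
    have h1 : g (l c₀) = g (t • KaehlerDifferential.D A B j) := by
      rw [← IsLocalizedModule.map_apply q.primeCompl fM g l c₀, ← hct, LinearMap.map_smul_of_tower, hc,
        LinearMap.map_smul_of_tower]
    obtain ⟨t', ht'⟩ := (IsLocalizedModule.eq_iff_exists q.primeCompl g).1 h1
    refine ⟨(t' * t : q.primeCompl).1, (t' * t : q.primeCompl).2, Ideal.Quotient.eq_zero_iff_mem.1 ?_⟩
    have h2 := congrArg δ.liftKaehlerDifferential ht'
    have hl0 : δ.liftKaehlerDifferential (l c₀) = 0 := by
      simp only [l, Fintype.linearCombination_apply, map_sum, map_smul,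
        Derivation.liftKaehlerDifferential_comp_D]
      refine Finset.sum_eq_zero fun i _ => ?_
      rw [hδJ _ (hzJ i), Ideal.Quotient.eq_zero_iff_mem.2
        (Ideal.mem_sup_right (Ideal.mem_sup_right (Ideal.subset_span (Set.mem_range_self i))) : z i ∈ P₀), smul_zero]
    rw [Submonoid.smul_def, Submonoid.smul_def, Submonoid.smul_def, map_smul, map_smul, map_smul, hl0,
      smul_zero, Derivation.liftKaehlerDifferential_comp_D, hδJ j hj, smul_smul] at h2
    rw [map_mul]
    exact h2.symm
  -- Nakayama
  have hJfg : J.FG := by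
    haveI : Algebra.FinitePresentation A (A ⧸ I) :=
      Algebra.FinitePresentation.quotient ⟨rs.toFinset, congrArg Ideal.span (by ext; simp)⟩
    let π : A ⧸ I →ₐ[A] B ⧸ J := Ideal.quotientMapₐ J (Algebra.ofId A B) fun a ha => (hI a).2 ha
    have hπ : Function.Bijective π := by
      refine ⟨(injective_iff_map_eq_zero π).2 fun a => ?_, fun y => ?_⟩
      · obtain ⟨a, rfl⟩ := Ideal.Quotient.mk_surjective a
        intro h
        exact Ideal.Quotient.eq_zero_iff_mem.2 ((hI a).1 (Ideal.Quotient.eq_zero_iff_mem.1 h))
      · obtain ⟨x, rfl⟩ := Ideal.Quotient.mk_surjective y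
        exact ⟨Ideal.Quotient.mk I (α x), (Ideal.Quotient.eq.2 (hα x)).symm⟩
    haveI : Algebra.FinitePresentation A (B ⧸ J) :=
      Algebra.FinitePresentation.equiv (AlgEquiv.ofBijective π hπ)
    have h := Algebra.FinitePresentation.ker_fG_of_surjective (Ideal.Quotient.mkₐ A J)
      Ideal.Quotient.mk_surjective
    rwa [show RingHom.ker (Ideal.Quotient.mkₐ A J).toRingHom = J from Ideal.mk_ker] at h
  have hJK : J.map (algebraMap B Bq) ≤ K₀.map (algebraMap B Bq) := by
    refine Submodule.le_of_le_smul_of_le_jacobson_bot (I := J.map (algebraMap B Bq)) (hJfg.map _) ?_ ?_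
    · rw [IsLocalRing.jacobson_eq_maximalIdeal ⊥ bot_ne_top, ← Localization.AtPrime.map_eq_maximalIdeal]
      exact Ideal.map_mono hJq
    · refine Ideal.map_le_iff_le_comap.2 fun j hj => ?_
      obtain ⟨s, hs, hmem⟩ := hstep j hj
      rw [Ideal.mem_comap, ← Ideal.unit_mul_mem_iff_mem _
        (IsLocalization.map_units Bq (⟨s, hs⟩ : q.primeCompl)), ← map_mul]
      have h := Ideal.mem_map_of_mem (algebraMap B Bq) hmem
      rw [Ideal.map_sup, Ideal.map_mul, sup_comm] at h
      exact h
  obtain ⟨T, hT⟩ := hJfg
  have hT' : ∀ j ∈ T, ∃ s ∉ q, s * j ∈ K₀ := fun j hj => by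
    obtain ⟨s, hs, hmem⟩ := (IsLocalization.algebraMap_mem_map_algebraMap_iff q.primeCompl Bq K₀ j).1
      (hJK (Ideal.mem_map_of_mem _ (hT ▸ Ideal.subset_span hj)))
    exact ⟨s, hs, hmem⟩
  choose! s hs hsmem using hT'
  -- conclude
  let b := r * ∏ j ∈ T, s j
  have hbq : b ∉ q := fun h => by
    rcases Ideal.IsPrime.mem_or_mem ‹q.IsPrime› h with h | h
    · exact hr h
    · obtain ⟨j, hj, hjq⟩ := (Ideal.IsPrime.prod_mem_iff).1 h
      exact hs j hj hjq
  let L := Localization.Away b
  refine ⟨b, hbq, ?_⟩
  have hKL : J.map (algebraMap B L) = K₀.map (algebraMap B L) := by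
    refine le_antisymm ?_ (Ideal.map_mono hK₀)
    rw [← hT, Ideal.map_span, Ideal.span_le]
    rintro _ ⟨j, hj, rfl⟩
    rw [SetLike.mem_coe, ← Ideal.unit_mul_mem_iff_mem _ (isUnit_of_dvd_unit (map_dvd (algebraMap B L)
      ((Finset.dvd_prod_of_mem s hj).trans (dvd_mul_left _ r)))
      (IsLocalization.Away.algebraMap_isUnit b)), ← map_mul]
    exact Ideal.mem_map_of_mem _ (hsmem j hj)
  let gL := KaehlerDifferential.map A A B L
  haveI : IsLocalizedModule (Submonoid.powers b) gL :=
    KaehlerDifferential.isLocalizedModule_map A B L (Submonoid.powers b)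
  haveI : Algebra.FormallyEtale B L := Algebra.FormallyEtale.of_isLocalization (Submonoid.powers b)
  haveI : Algebra.FormallySmooth A L := Algebra.FormallySmooth.comp A B L
  let fL : (Fin n → B) →ₗ[B] (Fin n → L) := LinearMap.pi fun i => Algebra.linearMap B L ∘ₗ LinearMap.proj i
  haveI : IsLocalizedModule (Submonoid.powers b) fL := inferInstance
  have hbij : Function.Bijective (IsLocalizedModule.map (Submonoid.powers b) fL gL l) := by
    have h := IsLocalizedModule.map_iso_commute (Submonoid.powers b) fL gL l
    have h2 : Function.Bijective ((IsLocalizedModule.map (Submonoid.powers b) fL gL l) ∘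
        (IsLocalizedModule.iso (Submonoid.powers b) fL)) := by
      rw [← LinearEquiv.coe_coe, ← LinearMap.coe_comp, h]
      exact (IsLocalizedModule.iso (Submonoid.powers b) gL).bijective.comp (hr' b (dvd_mul_right _ _))
    exact (Function.Bijective.of_comp_iff _ (IsLocalizedModule.iso (Submonoid.powers b) fL).bijective).1 h2
  let zL : Fin n → L := fun i => algebraMap B L (z i)
  let lL : (Fin n → L) →ₗ[L] KaehlerDifferential A L :=
    Fintype.linearCombination L (fun i => KaehlerDifferential.D A L (zL i))
  have hlL : lL.restrictScalars B = IsLocalizedModule.map (Submonoid.powers b) fL gL l := by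
    refine IsLocalizedModule.ext (Submonoid.powers b) fL (IsLocalizedModule.map_units gL) ?_
    rw [IsLocalizedModule.map_comp]
    refine (Pi.basisFun B (Fin n)).ext fun i => ?_
    simp [l, lL, fL, gL, zL, Fintype.linearCombination_apply, Pi.single_apply, Finset.sum_ite_eq']
  have hlLb : Function.Bijective lL := by
    have : Function.Bijective (lL.restrictScalars B) := by rw [hlL]; exact hbij
    exact this
  let bas : Module.Basis (Fin n) L (KaehlerDifferential A L) :=
    Module.Basis.ofEquivFun (LinearEquiv.ofBijective lL hlLb).symm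
  have hbas : ∀ i, bas i = KaehlerDifferential.D A L (zL i) := fun i => by
    simp [bas, lL, Fintype.linearCombination_apply, Pi.single_apply, Finset.sum_ite_eq']
  let P := MvPolynomial (Fin n) A
  letI : Algebra P L := (aeval (R := A) zL).toRingHom.toAlgebra
  haveI : IsScalarTower A P L := IsScalarTower.of_algebraMap_eq fun a => ((aeval (R := A) zL).commutes a).symm
  have hX : ∀ i, algebraMap P L (X i) = zL i := fun i => aeval_X zL i
  haveI : Algebra.FormallyEtale P L := H06DiffOp.formallyEtale_of_basis zL hX bas hbas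
  haveI : Algebra.FinitePresentation B L := IsLocalization.Away.finitePresentation b
  haveI : Algebra.FinitePresentation A L := Algebra.FinitePresentation.trans A B L
  haveI : Algebra.FinitePresentation P L :=
    Algebra.FinitePresentation.of_restrict_scalars_finitePresentation A P L
  haveI : Algebra.Etale P L := ⟨inferInstance, inferInstance⟩
  haveI : Module.Flat P L := inferInstance
  refine ⟨_, (isWeaklyRegular_X_append A n hrs).of_flat (S := L), ?_, ?_⟩
  swap
  · rw [Module.finrank_eq_card_basis b₁, Fintype.card_fin]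
    simp
  rw [hKL, List.map_append, List.map_map, List.map_ofFn, Ideal.ofList_append, Ideal.map_sup, sup_comm]
  congr 1
  · rw [Ideal.map_span, ← Set.range_comp]
    refine congrArg Ideal.span (Set.ext fun p => ?_)
    simp only [Set.mem_range, Set.mem_setOf_eq, List.mem_ofFn, Function.comp_apply]
    exact ⟨fun ⟨y, h⟩ => ⟨y, (hX y).trans h⟩, fun ⟨y, h⟩ => ⟨y, (hX y).symm.trans h⟩⟩
  · rw [Ideal.map_ofList, Ideal.map_ofList, List.map_map]
    refine congrArg Ideal.ofList (List.map_congr_left fun a _ => ?_)
    show algebraMap B L (algebraMap A B a) = algebraMap P L (C a)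
    rw [← IsScalarTower.algebraMap_apply A B L, IsScalarTower.algebraMap_apply A P L]
    rfl

end Groth.Agent.H29Slice
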