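import Groth.Agent.H13CInt.QuasiReg
import Groth.Prelude.Def_CAlgX
import Mathlib

/-!
# `H₁`-regular sequences are quasi-regular

For an `H₁`-regular sequence the ideal of relations of its powers is generated by the linear
relations `f_b X_a - f_a X_b`.
-/

set_option autoImplicit false
universe u

open MvPolynomial

namespace Groth.Agent.H29Slice

variable {R : Type u} [CommRing R] {r : ℕ}

/-- The linear relations. -/
noncomputable def linRel (f : Fin r → R) : Ideal (MvPolynomial (Fin r) R) :=
  Ideal.span {q | ∃ a b, q = C (f b) * X a - C (f a) * X b}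

theorem coeff_mem_of_mem_linRel (f : Fin r → R) {q : MvPolynomial (Fin r) R} (hq : q ∈ linRel f)
    (d : Fin r →₀ ℕ) : q.coeff d ∈ Ideal.span (Set.range f) := by
  refine MvPolynomial.mem_map_C_iff.mp ((Ideal.span_le.mpr ?_ : linRel f ≤ (Ideal.span (Set.range f)).map C) hq) d
  rintro _ ⟨a, b, rfl⟩
  exact sub_mem (Ideal.mul_mem_right _ _ (Ideal.mem_map_of_mem C (Ideal.subset_span ⟨b, rfl⟩)))
    (Ideal.mul_mem_right _ _ (Ideal.mem_map_of_mem C (Ideal.subset_span ⟨a, rfl⟩)))

theorem exists_split_variables {n : ℕ} {P : MvPolynomial (Fin r) R} (hP : P.IsHomogeneous (n + 1)) :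
    ∃ Q : Fin r → MvPolynomial (Fin r) R, (∀ i, (Q i).IsHomogeneous n) ∧ ∑ i, X i * Q i = P := by
  classical
  rw [P.as_sum]
  refine Finset.sum_induction _ (fun S => ∃ Q : Fin r → MvPolynomial (Fin r) R,
    (∀ i, (Q i).IsHomogeneous n) ∧ ∑ i, X i * Q i = S) ?_ ?_ fun d hd => ?_
  · rintro _ _ ⟨Q, hQ, rfl⟩ ⟨Q', hQ', rfl⟩
    exact ⟨Q + Q', fun i => (hQ i).add (hQ' i), by simp [mul_add, Finset.sum_add_distrib]⟩
  · exact ⟨0, fun i => isHomogeneous_zero .., by simp⟩
  have hdeg : Finsupp.degree d = n + 1 := by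
    rw [hP.degree_eq_sum_deg_support hd]
    exact Finsupp.degree_apply d
  obtain ⟨i, hi⟩ : ∃ i, d i ≠ 0 := by
    by_contra! h
    rw [show d = 0 from Finsupp.ext h, map_zero] at hdeg
    omega
  obtain ⟨e, rfl⟩ : ∃ e, d = Finsupp.single i 1 + e :=
    ⟨d - Finsupp.single i 1, (add_tsub_cancel_of_le
      (Finsupp.single_le_iff.mpr (Nat.one_le_iff_ne_zero.mpr hi))).symm⟩
  refine ⟨Pi.single i (monomial e (P.coeff (Finsupp.single i 1 + e))), fun j => ?_, ?_⟩
  · rcases eq_or_ne j i with rfl | hj
    · rw [Pi.single_eq_same]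
      refine isHomogeneous_monomial _ ?_
      rw [map_add, Finsupp.degree_single] at hdeg
      omega
    · rw [Pi.single_eq_of_ne hj]; exact isHomogeneous_zero ..
  · rw [Finset.sum_eq_single i (fun j _ hj => by rw [Pi.single_eq_of_ne hj, mul_zero]) (by simp),
      Pi.single_eq_same, X, monomial_mul, one_mul]

theorem mem_linRel_of_eval_eq_zero {f : Fin r → R} (hf : CAlgX.IsH1Regular f) :
    ∀ (n : ℕ) (P : MvPolynomial (Fin r) R), P.IsHomogeneous n → eval f P = 0 → P ∈ linRel f := by
  classical
  intro n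
  induction n with
  | zero =>
    intro P hP h
    obtain ⟨c, rfl⟩ : ∃ c, P = C c := ⟨P.coeff 0, totalDegree_eq_zero_iff_eq_C.mp
      (Nat.le_zero.mp hP.totalDegree_le)⟩
    rw [eval_C] at h
    rw [h, map_zero]
    exact zero_mem _
  | succ n ih =>
    intro P hP h
    obtain ⟨Q, hQ, rfl⟩ := exists_split_variables hP
    have hg : ∑ i, C (f i) * Q i ∈ linRel f :=
      ih _ (IsHomogeneous.sum _ _ _ fun i _ => (hQ i).C_mul _) (by simpa [map_sum] using h)
    obtain ⟨Q', hQ'f, hQ'X⟩ : ∃ Q' : Fin r → MvPolynomial (Fin r) R,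
        ∑ i, C (f i) * Q' i = ∑ i, C (f i) * Q i ∧ ∑ i, X i * Q' i = 0 := by
      generalize ∑ i, C (f i) * Q i = g at hg
      induction hg using Submodule.span_induction with
      | mem g hg =>
        obtain ⟨a, b, rfl⟩ := hg
        refine ⟨Pi.single b (X a) - Pi.single a (X b), ?_, ?_⟩ <;>
          simp only [Pi.sub_apply, mul_sub, Finset.sum_sub_distrib, Pi.single_apply, mul_ite, mul_zero,
            Finset.sum_ite_eq', Finset.mem_univ, if_true]
        ring
      | zero => exact ⟨0, by simp, by simp⟩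
      | add g g' _ _ hg hg' =>
        obtain ⟨S, h1, h2⟩ := hg
        obtain ⟨S', h1', h2'⟩ := hg'
        exact ⟨S + S', by simp [mul_add, Finset.sum_add_distrib, h1, h1'],
          by simp [mul_add, Finset.sum_add_distrib, h2, h2']⟩
      | smul c g _ hg =>
        obtain ⟨S, h1, h2⟩ := hg
        refine ⟨fun i => c * S i, ?_, ?_⟩
        · simp only [mul_left_comm _ c, ← Finset.mul_sum, h1, smul_eq_mul]
        · simp only [mul_left_comm _ c, ← Finset.mul_sum, h2, mul_zero]
    have hPD : ∑ i, X i * Q i = ∑ i, X i * (Q i - Q' i) := by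
      simp [mul_sub, Finset.sum_sub_distrib, hQ'X]
    have hD : ∑ i, C (f i) * (Q i - Q' i) = 0 := by
      simp [mul_sub, Finset.sum_sub_distrib, hQ'f]
    rw [hPD]
    set D := fun i => Q i - Q' i
    have hdec : ∑ i, X i * D i = ∑ d ∈ Finset.univ.biUnion (fun i => (D i).support),
        monomial d 1 * ∑ i, C ((D i).coeff d) * X i := by
      simp only [Finset.mul_sum]
      rw [Finset.sum_comm]
      refine Finset.sum_congr rfl fun i _ => ?_
      conv_lhs => rw [(D i).as_sum, Finset.mul_sum]
      refine (Finset.sum_subset (Finset.subset_biUnion_of_mem (fun i => (D i).support) (Finset.mem_univ i))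
        fun d _ hd => by rw [notMem_support_iff.mp hd]; simp).trans (Finset.sum_congr rfl fun d _ => ?_)
      rw [← mul_assoc, mul_comm (monomial d 1), C_mul_monomial, mul_one, mul_comm]
    rw [hdec]
    refine Ideal.sum_mem _ fun d _ => Ideal.mul_mem_left _ _ ?_
    have hrel : ∑ i, (D i).coeff d * f i = 0 := by
      have := congrArg (coeff d) hD
      simp only [coeff_sum, coeff_zero, coeff_C_mul] at this
      rw [← this]
      exact Finset.sum_congr rfl fun i _ => mul_comm _ _
    have hmem := hf _ hrel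
    suffices key : ∀ v : Fin r → R, v ∈ Submodule.span R {v : Fin r → R | ∃ i j : Fin r,
        v = Pi.single i (f j) - Pi.single j (f i)} → ∑ i, C (v i) * X i ∈ linRel f from key _ hmem
    intro v hmem
    induction hmem using Submodule.span_induction with
    | mem v hv =>
      obtain ⟨a, b, rfl⟩ := hv
      simp only [Pi.sub_apply, map_sub, sub_mul, Finset.sum_sub_distrib, Pi.single_apply, apply_ite C,
        map_zero, ite_mul, zero_mul, Finset.sum_ite_eq', Finset.mem_univ, if_true]
      exact Ideal.subset_span ⟨a, b, rfl⟩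
    | zero => simp
    | add v w _ _ hv hw => simpa [add_mul, Finset.sum_add_distrib] using add_mem hv hw
    | smul c v _ hv => simpa [mul_assoc, ← Finset.mul_sum] using Ideal.mul_mem_left _ (C c) hv

/-- `H₁`-regular sequences are quasi-regular. -/
theorem isQuasiRegular_of_isH1Regular {f : Fin r → R} (hf : CAlgX.IsH1Regular f) :
    CAlgX.IsQuasiRegular f := fun _ P hP he d =>
  H13CInt.coeff_mem_of_eval_mem (fun F hF h0 e => coeff_mem_of_mem_linRel f
    (mem_linRel_of_eval_eq_zero hf _ F hF h0) e) P hP he d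

end Groth.Agent.H29Slice
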