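import Groth.Agent.H13CInt.FlatPow
import Mathlib

/-!
# Base change of quasi-regular sequences with flat quotient
-/

set_option autoImplicit false
set_option linter.style.haveILetI false
set_option maxHeartbeats 400000
universe u

open MvPolynomial
open scoped TensorProduct

namespace Groth.Agent.H29Slice

/-- Quasi-regular sequences stay quasi-regular after a flat base change, or any base change if the
quotient is flat. -/
theorem isQuasiRegular_baseChange_of_flat (A B A' : Type u) [CommRing A] [CommRing B] [CommRing A']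
    [Algebra A B] [Algebra A A'] {r : ℕ} (f : Fin r → B)
    (hflat : Module.Flat A A' ∨ Module.Flat A (B ⧸ Ideal.span (Set.range f)))
    (hq : CAlgX.IsQuasiRegular f) :
    CAlgX.IsQuasiRegular (fun i => ((1 : A') ⊗ₜ[A] f i : A' ⊗[A] B)) := by
  classical
  set J := Ideal.span (Set.range f) with hJ
  let inc : B →ₐ[A] A' ⊗[A] B := Algebra.TensorProduct.includeRight
  have hspan : Ideal.span (Set.range fun i => ((1 : A') ⊗ₜ[A] f i : A' ⊗[A] B)) = J.map inc := by
    rw [hJ, Ideal.map_span, ← Set.range_comp]; rfl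
  intro k P hP he d₀
  rw [hspan] at he ⊢
  let ι := ↥((Finset.univ : Finset (Fin r)).finsuppAntidiag k)
  have hdeg : ∀ d : ι, d.1.degree = k := fun d => by
    have := (Finset.mem_finsuppAntidiag.1 d.2).1
    rw [Finsupp.degree_apply]
    refine Eq.trans ?_ this
    exact Finset.sum_subset (Finset.subset_univ _) fun i _ hi => by simpa using hi
  have hmem : ∀ d : Fin r →₀ ℕ, d.degree = k →
      d ∈ (Finset.univ : Finset (Fin r)).finsuppAntidiag k := fun d hd => by
    refine Finset.mem_finsuppAntidiag.2 ⟨?_, Finset.subset_univ _⟩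
    rw [← hd, Finsupp.degree_apply]
    exact (Finset.sum_subset (Finset.subset_univ _) fun i _ hi => by simpa using hi).symm
  let mono : ι → B := fun d => eval f (monomial d.1 1)
  have hmono : ∀ d : ι, mono d ∈ J ^ k := fun d =>
    Groth.Agent.H06QR.eval_mem f (isHomogeneous_monomial _ (hdeg d))
  let mult : ι → (B ⧸ J) →ₗ[B] B ⧸ J ^ (k + 1) := fun d =>
    Submodule.mapQ J (J ^ (k + 1)) (LinearMap.mulRight B (mono d)) fun b hb => by
      rw [Submodule.mem_comap, LinearMap.mulRight_apply, pow_succ']
      exact Ideal.mul_mem_mul hb (hmono d)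
  let ψ : (ι → B ⧸ J) →ₗ[A] B ⧸ J ^ (k + 1) :=
    ∑ d : ι, ((mult d).restrictScalars A).comp (LinearMap.proj d)
  have hψmk : ∀ c : ι → B, ψ (fun d => Ideal.Quotient.mk J (c d)) =
      Ideal.Quotient.mk _ (∑ d : ι, c d * mono d) := fun c => by
    rw [map_sum]
    simp only [ψ, LinearMap.sum_apply]
    rfl
  let poly : (ι → B) → MvPolynomial (Fin r) B := fun c => ∑ d : ι, monomial d.1 (c d)
  have hhom : ∀ c, (poly c).IsHomogeneous k := fun c =>
    IsHomogeneous.sum _ _ _ fun d _ => isHomogeneous_monomial _ (hdeg d)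
  have hcoeff : ∀ c (d : ι), (poly c).coeff d.1 = c d := fun c d => by
    simp only [poly, coeff_sum, coeff_monomial]
    rw [Finset.sum_eq_single d (fun b _ hb => if_neg fun e => hb (Subtype.ext e)) (by simp)]
    simp
  have heval : ∀ c, eval f (poly c) = ∑ d : ι, c d * mono d := fun c => by
    rw [map_sum]
    exact Finset.sum_congr rfl fun d _ => by simp [mono, eval_monomial]
  have hψinj : Function.Injective ψ := by
    rw [injective_iff_map_eq_zero]
    intro c hc
    choose c₀ hc₀ using fun d => Ideal.Quotient.mk_surjective (I := J) (c d)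
    obtain rfl : c = fun d => Ideal.Quotient.mk J (c₀ d) := funext fun d => (hc₀ d).symm
    rw [hψmk, Ideal.Quotient.eq_zero_iff_mem, ← heval] at hc
    funext d
    exact Ideal.Quotient.eq_zero_iff_mem.mpr (hcoeff c₀ d ▸ hq k _ (hhom c₀) hc d.1)
  let π : (B ⧸ J ^ (k + 1)) →ₗ[A] B ⧸ J ^ k :=
    (Ideal.Quotient.factorₐ A (Ideal.pow_le_pow_right (I := J) k.le_succ)).toLinearMap
  have hπ : Function.Surjective π := fun y => by
    obtain ⟨b, rfl⟩ := Ideal.Quotient.mk_surjective y
    exact ⟨Ideal.Quotient.mk _ b, rfl⟩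
  have hex : Function.Exact ψ π := by
    intro x
    obtain ⟨x, rfl⟩ := Ideal.Quotient.mk_surjective x
    show Ideal.Quotient.mk (J ^ k) x = 0 ↔ _
    rw [Ideal.Quotient.eq_zero_iff_mem]
    constructor
    · intro hx
      obtain ⟨Q, hQ, rfl⟩ := Groth.Agent.H06QR.exists_homogeneous f hx
      refine ⟨fun d => Ideal.Quotient.mk J (Q.coeff d.1), ?_⟩
      have hQ' : poly (fun d => Q.coeff d.1) = Q := by
        ext d
        by_cases hd : d.degree = k
        · exact hcoeff _ ⟨d, hmem d hd⟩
        · rw [(hhom _).coeff_eq_zero hd, hQ.coeff_eq_zero hd]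
      rw [hψmk, ← heval, hQ']
    · rintro ⟨c, hc⟩
      choose c₀ hc₀ using fun d => Ideal.Quotient.mk_surjective (I := J) (c d)
      obtain rfl : c = fun d => Ideal.Quotient.mk J (c₀ d) := funext fun d => (hc₀ d).symm
      rw [hψmk] at hc
      have h1 : ∑ d : ι, c₀ d * mono d ∈ J ^ k := Ideal.sum_mem _ fun d _ => Ideal.mul_mem_left _ _ (hmono d)
      exact (Submodule.sub_mem_iff_right _ h1).mp
        (Ideal.pow_le_pow_right k.le_succ (Ideal.Quotient.eq.mp hc))
  have hinj : Function.Injective (ψ.lTensor A') := by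
    rcases hflat with h | h
    · haveI := h
      exact Module.Flat.lTensor_preserves_injective_linearMap ψ hψinj
    · haveI := h
      haveI := H13CInt.flat_quotient_pow (A := A) hq k
      exact LinearMap.lTensor_injective_of_exact_of_flat π hπ ψ hψinj hex A'
  let q : ∀ I : Ideal B, A' ⊗[A] B →ₗ[A] A' ⊗[A] (B ⧸ I) := fun I =>
    (Ideal.Quotient.mkₐ A I).toLinearMap.lTensor A'
  have hq0 : ∀ (I : Ideal B) (x : A' ⊗[A] B), q I x = 0 ↔ x ∈ I.map inc := fun I x => by
    have h := Algebra.TensorProduct.lTensor_ker (R := A) (A := A') (Ideal.Quotient.mkₐ A I)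
      (Ideal.Quotient.mkₐ_surjective A I)
    have hk : RingHom.ker (Ideal.Quotient.mkₐ A I) = I := Ideal.Quotient.mkₐ_ker A I
    rw [hk] at h
    exact (Iff.of_eq (congrArg (x ∈ ·) h))
  have hmul : ∀ (d : ι) (y : A' ⊗[A] B),
      ((mult d).restrictScalars A).lTensor A' (q J y) = q (J ^ (k + 1)) (y * inc (mono d)) := by
    intro d y
    induction y with
    | zero => simp
    | tmul a b =>
      rw [show inc (mono d) = (1 : A') ⊗ₜ[A] mono d from rfl, Algebra.TensorProduct.tmul_mul_tmul, mul_one]
      rfl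
    | add u v hu hv => simp only [map_add, hu, hv, add_mul]
  let z : A' ⊗[A] (ι → B ⧸ J) :=
    ∑ d : ι, (LinearMap.single A (fun _ : ι => B ⧸ J) d).lTensor A' (q J (P.coeff d.1))
  have hψsingle : ∀ d : ι, ψ.comp (LinearMap.single A (fun _ : ι => B ⧸ J) d) = (mult d).restrictScalars A := by
    intro d
    refine LinearMap.ext fun b => ?_
    simp only [ψ, LinearMap.coe_comp, Function.comp_apply, LinearMap.sum_apply, LinearMap.proj_apply]
    rw [Finset.sum_eq_single d (fun e _ he => by simp [Pi.single_eq_of_ne he]) (by simp)]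
    simp
  have hz : ψ.lTensor A' z = 0 := by
    have hsum : eval (fun i => ((1 : A') ⊗ₜ[A] f i : A' ⊗[A] B)) P = ∑ d : ι, P.coeff d.1 * inc (mono d) := by
      have hP' : P = ∑ d : ι, monomial d.1 (P.coeff d.1) := by
        ext d
        rw [coeff_sum]
        simp only [coeff_monomial]
        by_cases hd : d.degree = k
        · rw [Finset.sum_eq_single ⟨d, hmem d hd⟩ (fun b _ hb => if_neg fun e => hb (Subtype.ext e)) (by simp)]
          simp
        · rw [hP.coeff_eq_zero hd]
          exact (Finset.sum_eq_zero fun e _ => if_neg fun he => hd (by rw [← he]; exact hdeg e)).symm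
      conv_lhs => rw [hP']
      rw [map_sum]
      refine Finset.sum_congr rfl fun d _ => ?_
      simp only [mono, eval_monomial, one_mul]
      rw [Finsupp.prod, Finsupp.prod, map_prod]
      congr 1
      exact Finset.prod_congr rfl fun i _ => by rw [map_pow]; rfl
    calc ψ.lTensor A' z = ∑ d : ι, q (J ^ (k + 1)) (P.coeff d.1 * inc (mono d)) := by
          rw [map_sum]
          refine Finset.sum_congr rfl fun d _ => ?_
          rw [← LinearMap.lTensor_comp_apply, hψsingle, hmul]
      _ = q (J ^ (k + 1)) (eval (fun i => ((1 : A') ⊗ₜ[A] f i : A' ⊗[A] B)) P) := by rw [hsum, map_sum]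
      _ = 0 := by rw [hq0, Ideal.map_pow]; exact he
  have hz0 : z = 0 := hinj (hz.trans (map_zero _).symm)
  by_cases hd : d₀.degree = k
  · let d : ι := ⟨d₀, hmem d₀ hd⟩
    have h1 := congrArg ((LinearMap.proj d : (ι → B ⧸ J) →ₗ[A] B ⧸ J).lTensor A') hz0
    rw [map_zero, map_sum, Finset.sum_eq_single d] at h1
    · rw [← LinearMap.lTensor_comp_apply, LinearMap.proj_comp_single_same, LinearMap.lTensor_id_apply] at h1
      exact (hq0 J _).mp h1
    · intro e _ he'
      rw [← LinearMap.lTensor_comp_apply, LinearMap.proj_comp_single_ne A _ _ _ he'.symm,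
        LinearMap.lTensor_zero, LinearMap.zero_apply]
    · simp
  · rw [hP.coeff_eq_zero hd]
    exact zero_mem _

/-- Quasi-regular sequences with flat quotient stay quasi-regular after base change. -/
theorem isQuasiRegular_baseChange (A B A' : Type u) [CommRing A] [CommRing B] [CommRing A']
    [Algebra A B] [Algebra A A'] {r : ℕ} (f : Fin r → B)
    [hflat : Module.Flat A (B ⧸ Ideal.span (Set.range f))] (hq : CAlgX.IsQuasiRegular f) :
    CAlgX.IsQuasiRegular (fun i => ((1 : A') ⊗ₜ[A] f i : A' ⊗[A] B)) :=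
  isQuasiRegular_baseChange_of_flat A B A' f (Or.inr hflat) hq

end Groth.Agent.H29Slice
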