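import Groth.Agent.H29Slice.QuasiReg
import Groth.Agent.H29Slice.QBaseChange
import Groth.Prelude.Def_RegImm
import Mathlib

/-!
# Quasi-regular and H₁-regular sequences: localisation and base change with flat quotient
-/

set_option autoImplicit false
set_option linter.style.haveILetI false
set_option maxHeartbeats 400000
universe u

open scoped TensorProduct

namespace Groth.Agent.H29Slice

/-- The trivial relations of a sequence. -/
def trivRel {R : Type u} [CommRing R] {c : ℕ} (f : Fin c → R) : Set (Fin c → R) :=
  {v | ∃ i j : Fin c, v = Pi.single i (f j) - Pi.single j (f i)}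

theorem map_mem_trivRel {R L : Type u} [CommRing R] [CommRing L] [Algebra R L] {c : ℕ} (f : Fin c → R)
    {a : Fin c → R} (ha : a ∈ Submodule.span R (trivRel f)) :
    (fun i => algebraMap R L (a i)) ∈ Submodule.span L (trivRel fun i => algebraMap R L (f i)) := by
  induction ha using Submodule.span_induction with
  | mem v hv =>
    obtain ⟨i, j, rfl⟩ := hv
    refine Submodule.subset_span ⟨i, j, funext fun k => ?_⟩
    simp only [Pi.sub_apply, map_sub]
    rcases eq_or_ne k i with rfl | h1 <;> rcases eq_or_ne k j with rfl | h2 <;> simp [*]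
  | zero =>
    have : (fun i => algebraMap R L ((0 : Fin c → R) i)) = 0 := funext fun i => by simp
    rw [this]; exact zero_mem _
  | add x y _ _ hx hy =>
    have : (fun i => algebraMap R L ((x + y) i)) =
        (fun i => algebraMap R L (x i)) + fun i => algebraMap R L (y i) := funext fun i => by simp
    rw [this]; exact add_mem hx hy
  | smul r x _ hx =>
    have : (fun i => algebraMap R L ((r • x) i)) = algebraMap R L r • fun i => algebraMap R L (x i) :=
      funext fun i => by simp
    rw [this]; exact Submodule.smul_mem _ _ hx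

/-- `H₁`-regularity localises. -/
theorem isH1Regular_localization {R L : Type u} [CommRing R] [CommRing L] [Algebra R L]
    (M : Submonoid R) [IsLocalization M L] {c : ℕ} {f : Fin c → R} (hf : CAlgX.IsH1Regular f) :
    CAlgX.IsH1Regular (fun i => algebraMap R L (f i)) := by
  intro a ha
  obtain ⟨s, hs⟩ := IsLocalization.exist_integer_multiples M Finset.univ a
  choose a₀ ha₀ using fun i => hs i (Finset.mem_univ i)
  have h1 : algebraMap R L (∑ i, a₀ i * f i) = 0 := by
    rw [map_sum]
    have : ∀ i, algebraMap R L (a₀ i * f i) = algebraMap R L s * (a i * algebraMap R L (f i)) := fun i => by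
      rw [map_mul, ha₀, Algebra.smul_def, mul_assoc]
    rw [Finset.sum_congr rfl fun i _ => this i, ← Finset.mul_sum, ha, mul_zero]
  obtain ⟨t, ht⟩ := (IsLocalization.map_eq_zero_iff M L _).mp h1
  have h2 := map_mem_trivRel (L := L) f (hf (fun i => (t : R) * a₀ i)
    (by rw [← ht, Finset.mul_sum]; simp only [mul_assoc]))
  obtain ⟨e, he⟩ := (IsLocalization.map_units L t).mul (IsLocalization.map_units L s)
  have h3 : a = (↑e⁻¹ : L) • fun i => algebraMap R L ((t : R) * a₀ i) := funext fun i => by
    rw [Pi.smul_apply, smul_eq_mul, map_mul, ha₀, Algebra.smul_def, ← mul_assoc (algebraMap R L t),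
      ← he, ← mul_assoc, Units.inv_mul, one_mul]
  rw [h3]
  exact Submodule.smul_mem _ _ h2

/-- `H₁`-regular sequences stay `H₁`-regular after a flat base change, or any base change if the
quotient is flat. -/
theorem isH1Regular_baseChange_of_flat (A B A' : Type u) [CommRing A] [CommRing B] [CommRing A']
    [Algebra A B] [Algebra A A'] {r : ℕ} (f : Fin r → B)
    (hflat : Module.Flat A A' ∨ Module.Flat A (B ⧸ Ideal.span (Set.range f)))
    (hq : CAlgX.IsH1Regular f) :
    CAlgX.IsH1Regular (fun i => ((1 : A') ⊗ₜ[A] f i : A' ⊗[A] B)) := by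
  classical
  let J := Ideal.span (Set.range f)
  let T : Submodule B (Fin r → B) := Submodule.span B (trivRel f)
  let rel : (Fin r → B) →ₗ[B] J :=
    LinearMap.codRestrict J (∑ i, (LinearMap.mulRight B (f i)).comp (LinearMap.proj i)) fun a => by
      simp only [LinearMap.sum_apply, LinearMap.comp_apply, LinearMap.proj_apply, LinearMap.mulRight_apply]
      exact Ideal.sum_mem _ fun i _ => Ideal.mul_mem_left _ _ (Ideal.subset_span ⟨i, rfl⟩)
  have hrel : ∀ a, (rel a : B) = ∑ i, a i * f i := fun a => by simp [rel]
  have hsurj : Function.Surjective rel := fun y => by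
    obtain ⟨c, hc⟩ := (Ideal.mem_span_range_iff_exists_fun).mp y.2
    exact ⟨c, Subtype.ext (by rw [hrel]; exact hc)⟩
  have hex : Function.Exact (T.subtype.restrictScalars A) (rel.restrictScalars A) := by
    intro a
    constructor
    · intro ha
      exact ⟨⟨a, hq a (by rw [← hrel]; exact congrArg Subtype.val ha)⟩, rfl⟩
    · rintro ⟨⟨a, ha⟩, rfl⟩
      show rel a = 0
      refine LinearMap.mem_ker.mp ((Submodule.span_le.mpr ?_ : T ≤ LinearMap.ker rel) ha)
      rintro _ ⟨i, j, rfl⟩
      rw [SetLike.mem_coe, LinearMap.mem_ker]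
      refine Subtype.ext ?_
      rw [hrel]
      simp only [Pi.sub_apply, sub_mul, Finset.sum_sub_distrib, ZeroMemClass.coe_zero, Pi.single_apply,
        ite_mul, zero_mul, Finset.sum_ite_eq', Finset.mem_univ, if_true]
      ring
  intro a ha
  let z : A' ⊗[A] (Fin r → B) := ∑ i, (LinearMap.single A (fun _ : Fin r => B) i).lTensor A' (a i)
  have hJinj : Function.Injective ((J.subtype.restrictScalars A).lTensor A') := hflat.elim
    (fun h => haveI := h; Module.Flat.lTensor_preserves_injective_linearMap _ (Submodule.injective_subtype J))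
    fun h => haveI := h; LinearMap.lTensor_injective_of_exact_of_flat ((Ideal.Quotient.mkₐ A J).toLinearMap)
      (Ideal.Quotient.mkₐ_surjective A J) _ (Submodule.injective_subtype J)
      (fun x => by
        show Ideal.Quotient.mk J x = 0 ↔ _
        rw [Ideal.Quotient.eq_zero_iff_mem]
        exact ⟨fun h => ⟨⟨x, h⟩, rfl⟩, fun ⟨y, hy⟩ => hy ▸ y.2⟩) A'
  have hmul : ∀ (i : Fin r) (y : A' ⊗[A] B),
      ((J.subtype.restrictScalars A).comp ((rel.restrictScalars A).comp
        (LinearMap.single A (fun _ : Fin r => B) i))).lTensor A' y = y * ((1 : A') ⊗ₜ[A] f i) := by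
    intro i y
    induction y with
    | zero => simp
    | tmul c b =>
      rw [LinearMap.lTensor_tmul, Algebra.TensorProduct.tmul_mul_tmul, mul_one]
      congr 1
      show (rel (Pi.single i b) : B) = b * f i
      rw [hrel, Finset.sum_eq_single i (fun k _ hk => by simp [Pi.single_eq_of_ne hk]) (by simp)]
      simp
    | add u v hu hv => simp only [map_add, hu, hv, add_mul]
  have hz : (rel.restrictScalars A).lTensor A' z = 0 := by
    refine hJinj ?_
    rw [map_zero, map_sum, map_sum, ← ha]
    refine Finset.sum_congr rfl fun i _ => ?_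
    rw [← hmul i (a i), LinearMap.lTensor_comp_apply, LinearMap.lTensor_comp_apply]
  obtain ⟨w, hw⟩ := ((lTensor_exact A' hex hsurj) z).mp hz
  let comp : A' ⊗[A] (Fin r → B) → Fin r → A' ⊗[A] B :=
    fun x k => (LinearMap.proj k : (Fin r → B) →ₗ[A] B).lTensor A' x
  have hza : comp z = a := funext fun k => by
    show (LinearMap.proj k : (Fin r → B) →ₗ[A] B).lTensor A' z = a k
    rw [map_sum, Finset.sum_eq_single k]
    · rw [← LinearMap.lTensor_comp_apply, LinearMap.proj_comp_single_same, LinearMap.lTensor_id_apply]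
    · intro e _ he'
      rw [← LinearMap.lTensor_comp_apply, LinearMap.proj_comp_single_ne A _ _ _ he'.symm,
        LinearMap.lTensor_zero, LinearMap.zero_apply]
    · simp
  rw [← hza, ← hw]
  clear hw
  letI : Algebra B (A' ⊗[A] B) := Algebra.TensorProduct.rightAlgebra
  induction w with
  | zero =>
    have : comp ((T.subtype.restrictScalars A).lTensor A' 0) = 0 := funext fun k => by simp [comp]
    rw [this]; exact zero_mem _
  | tmul c v =>
    have h1 := map_mem_trivRel (L := A' ⊗[A] B) f v.2
    have h2 : comp ((T.subtype.restrictScalars A).lTensor A' (c ⊗ₜ v)) =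
        (c ⊗ₜ[A] (1 : B) : A' ⊗[A] B) • fun i => algebraMap B (A' ⊗[A] B) ((v : Fin r → B) i) := by
      funext k
      show c ⊗ₜ[A] ((v : Fin r → B) k) = (c ⊗ₜ[A] (1 : B)) * ((1 : A') ⊗ₜ[A] ((v : Fin r → B) k))
      rw [Algebra.TensorProduct.tmul_mul_tmul, mul_one, one_mul]
    rw [h2]
    exact Submodule.smul_mem _ _ h1
  | add u v hu hv =>
    have : comp ((T.subtype.restrictScalars A).lTensor A' (u + v)) =
        comp ((T.subtype.restrictScalars A).lTensor A' u) + comp ((T.subtype.restrictScalars A).lTensor A' v) :=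
      funext fun k => by simp [comp]
    rw [this]; exact add_mem hu hv

/-- `H₁`-regular sequences with flat quotient stay `H₁`-regular after base change. -/
theorem isH1Regular_baseChange (A B A' : Type u) [CommRing A] [CommRing B] [CommRing A']
    [Algebra A B] [Algebra A A'] {r : ℕ} (f : Fin r → B)
    [hflat : Module.Flat A (B ⧸ Ideal.span (Set.range f))] (hq : CAlgX.IsH1Regular f) :
    CAlgX.IsH1Regular (fun i => ((1 : A') ⊗ₜ[A] f i : A' ⊗[A] B)) :=
  isH1Regular_baseChange_of_flat A B A' f (Or.inr hflat) hq

theorem isLocalization_bot_of_bijective {R L : Type u} [CommRing R] [CommRing L] [Algebra R L]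
    (hb : Function.Bijective (algebraMap R L)) : IsLocalization (⊥ : Submonoid R) L where
  map_units := fun y => by rw [Submonoid.mem_bot.mp y.2, map_one]; exact isUnit_one
  surj := fun z => by obtain ⟨x, rfl⟩ := hb.2 z; exact ⟨(x, 1), by simp⟩
  exists_of_eq := fun h => ⟨1, by simpa using hb.1 h⟩

theorem get_map_transfer {R L : Type u} (P : ∀ n, (Fin n → L) → Prop) (φ : R → L) (rs : List R)
    (h : P rs.length (fun i => φ (rs.get i))) : P (rs.map φ).length (rs.map φ).get := by
  have key : ∀ (n : ℕ) (e : n = rs.length), P n (fun i => φ (rs.get (Fin.cast e i))) := by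
    rintro n rfl; exact h
  have e2 : (rs.map φ).get = fun i => φ (rs.get (Fin.cast (List.length_map φ) i)) :=
    funext fun i => by simp
  rw [e2]
  exact key _ _

/-- Quasi-regular or `H₁`-regular sequences localise. -/
theorem seq_localization {k : RegImm.Kind} (hk : k = RegImm.Kind.h1 ∨ k = RegImm.Kind.quasi)
    {R L : Type u} [CommRing R] [CommRing L] [Algebra R L] (M : Submonoid R) [IsLocalization M L]
    {rs : List R} (h : k.Seq R rs) : k.Seq L (rs.map (algebraMap R L)) := by
  rcases hk with rfl | rfl
  · exact get_map_transfer (fun _ g => CAlgX.IsH1Regular g) _ rs (isH1Regular_localization M h)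
  · exact get_map_transfer (fun _ g => CAlgX.IsQuasiRegular g) _ rs (isQuasiRegular_localization M h)

/-- Quasi-regular or `H₁`-regular sequences with flat quotient: base change to a pushout. -/
theorem seq_pushout {k : RegImm.Kind} (hk : k = RegImm.Kind.h1 ∨ k = RegImm.Kind.quasi)
    (A B A' B' : Type u) [CommRing A] [CommRing B] [CommRing A'] [CommRing B'] [Algebra A B] [Algebra A A']
    [Algebra A B'] [Algebra A' B'] [Algebra B B'] [IsScalarTower A A' B'] [IsScalarTower A B B']
    [Algebra.IsPushout A A' B B'] {rs : List B} [Module.Flat A (B ⧸ Ideal.ofList rs)]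
    (h : k.Seq B rs) : k.Seq B' (rs.map (algebraMap B B')) := by
  have hspan : Ideal.span (Set.range rs.get) = Ideal.ofList rs := by rw [Ideal.ofList, Set.range_list_get]
  haveI : Module.Flat A (B ⧸ Ideal.span (Set.range rs.get)) :=
    Module.Flat.of_linearEquiv (Ideal.quotientEquivAlgOfEq A hspan).toLinearEquiv
  let e := Algebra.IsPushout.equiv A A' B B'
  letI : Algebra (A' ⊗[A] B) B' := e.toAlgHom.toRingHom.toAlgebra
  haveI := isLocalization_bot_of_bijective (R := A' ⊗[A] B) (L := B') e.bijective
  have he : ∀ b, algebraMap (A' ⊗[A] B) B' ((1 : A') ⊗ₜ[A] b) = algebraMap B B' b := fun b => by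
    show e ((1 : A') ⊗ₜ[A] b) = _
    rw [Algebra.IsPushout.equiv_tmul, map_one, one_mul]
  have h1 : k.Seq (A' ⊗[A] B) (rs.map fun b => (1 : A') ⊗ₜ[A] b) := by
    rcases hk with rfl | rfl
    · exact get_map_transfer (fun _ g => CAlgX.IsH1Regular g) _ rs (isH1Regular_baseChange A B A' rs.get h)
    · exact get_map_transfer (fun _ g => CAlgX.IsQuasiRegular g) _ rs (isQuasiRegular_baseChange A B A' rs.get h)
  have h3 := seq_localization hk (L := B') (⊥ : Submonoid (A' ⊗[A] B)) h1
  rw [List.map_map] at h3
  exact (congrArg (k.Seq B') (List.map_congr_left fun b _ => he b)).mp h3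

/-- Quasi-regular or `H₁`-regular sequences: flat base change. -/
theorem seq_flat {k : RegImm.Kind} (hk : k = RegImm.Kind.h1 ∨ k = RegImm.Kind.quasi)
    {R S : Type u} [CommRing R] [CommRing S] [Algebra R S] [Module.Flat R S] {rs : List R}
    (h : k.Seq R rs) : k.Seq S (rs.map (algebraMap R S)) := by
  let e := (Algebra.TensorProduct.rid R R S).toRingEquiv
  have h1 : k.Seq (S ⊗[R] R) (rs.map fun x => (1 : S) ⊗ₜ[R] x) := by
    rcases hk with rfl | rfl
    · exact get_map_transfer (fun _ g => CAlgX.IsH1Regular g) _ rs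
        (isH1Regular_baseChange_of_flat R R S rs.get (Or.inl inferInstance) h)
    · exact get_map_transfer (fun _ g => CAlgX.IsQuasiRegular g) _ rs
        (isQuasiRegular_baseChange_of_flat R R S rs.get (Or.inl inferInstance) h)

  letI : Algebra (S ⊗[R] R) S := e.toRingHom.toAlgebra
  haveI := isLocalization_bot_of_bijective (R := S ⊗[R] R) (L := S) e.bijective
  have h2 := seq_localization hk (⊥ : Submonoid (S ⊗[R] R)) (L := S) h1
  rw [List.map_map] at h2
  convert h2 using 2
  ext x
  show _ = e ((1 : S) ⊗ₜ[R] x)
  simp [e, Algebra.algebraMap_eq_smul_one]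

end Groth.Agent.H29Slice
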