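import Groth.Agent.H8Props.PseudoCoh.Koszul
import Groth.Agent.H29Slice.SeqOps
import Mathlib

/-!
# Regular sequences are Koszul-regular and Koszul-regular sequences are `H₁`-regular
-/

set_option autoImplicit false
set_option linter.style.haveILetI false
set_option maxHeartbeats 400000
universe u

open CategoryTheory CategoryTheory.Limits CochainComplex RingTheory.Sequence
open Groth.Agent.H8Props.PseudoCoh
open scoped Pointwise

namespace Groth.Agent.H29Slice

variable {A : Type u} [CommRing A]

theorem fst_d {K : CochainComplex (ModuleCat.{u} A) ℤ} (φ : K ⟶ K) (i j k : ℤ) (hij : i + 1 = j)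
    (hjk : j + 1 = k) (x : (mappingCone φ).X i) :
    ((mappingCone.fst φ).1.v j k hjk).hom ((mappingCone φ).d i j x) =
      -(K.d j k (((mappingCone.fst φ).1.v i j hij).hom x)) := by
  simpa using congrArg (fun g => g.hom x) (mappingCone.d_fst_v φ i j k hij hjk)

/-- The differential of a cone, in coordinates. -/
theorem coneXEquiv_d {K : CochainComplex (ModuleCat.{u} A) ℤ} (φ : K ⟶ K) (i j k : ℤ) (hij : i + 1 = j)
    (hjk : j + 1 = k) (x : (mappingCone φ).X i) :
    coneXEquiv φ j k hjk ((mappingCone φ).d i j x) =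
      (-(K.d j k (coneXEquiv φ i j hij x).1),
        φ.f j (coneXEquiv φ i j hij x).1 + K.d i j (coneXEquiv φ i j hij x).2) :=
  Prod.ext (fst_d φ i j k hij hjk x) (snd_d φ i j hij x)

/-- The differential of a Koszul complex on an extended list, in coordinates. -/
theorem koszul_cons_d (f : A) (l : List A) (i j k : ℤ) (hij : i + 1 = j) (hjk : j + 1 = k)
    (x : (Koszul.koszul A (f :: l)).X i) :
    coneXEquiv (f • 𝟙 (Koszul.koszul A l)) j k hjk ((Koszul.koszul A (f :: l)).d i j x) =
      (-((Koszul.koszul A l).d j k (coneXEquiv (f • 𝟙 (Koszul.koszul A l)) i j hij x).1),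
        f • (coneXEquiv (f • 𝟙 (Koszul.koszul A l)) i j hij x).1 +
          (Koszul.koszul A l).d i j (coneXEquiv (f • 𝟙 (Koszul.koszul A l)) i j hij x).2) :=
  (coneXEquiv_d _ i j k hij hjk x).trans rfl

/-- The low degree part of a Koszul complex. -/
theorem koszul_low : ∀ l : List A, ∃ (ε : (Koszul.koszul A l).X 0 ≃ₗ[A] A)
    (π : (Koszul.koszul A l).X (-1) →ₗ[A] (Fin l.length → A)),
    Function.Surjective π ∧
      (∀ x, ε ((Koszul.koszul A l).d (-1) 0 x) = ∑ i, π x i * l.get i) ∧
      ∀ w, π ((Koszul.koszul A l).d (-2) (-1) w) ∈ Submodule.span A (trivRel l.get)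
  | [] => by
    refine ⟨(HomologicalComplex.singleObjXSelf (ComplexShape.up ℤ) 0 (ModuleCat.of A A)).toLinearEquiv, 0,
      fun a => ⟨0, funext fun i => i.elim0⟩, fun x => ?_, fun w => zero_mem _⟩
    haveI := ModuleCat.subsingleton_of_isZero (koszul_isZero ([] : List A) (-1) (by simp))
    rw [Subsingleton.elim x 0, map_zero, map_zero, map_zero]
    simp
  | f :: l => by
    obtain ⟨ε, π, hπ, hd, ht⟩ := koszul_low l
    haveI := ModuleCat.subsingleton_of_isZero (koszul_isZero l 1 (Or.inr one_pos))
    let e₀ := coneXEquiv (f • 𝟙 (Koszul.koszul A l)) 0 1 rfl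
    let e₁ := coneXEquiv (f • 𝟙 (Koszul.koszul A l)) (-1) 0 (by omega)
    let e₂ := coneXEquiv (f • 𝟙 (Koszul.koszul A l)) (-2) (-1) (by omega)
    let p : ((Koszul.koszul A l).X 1 × (Koszul.koszul A l).X 0) ≃ₗ[A] (Koszul.koszul A l).X 0 :=
      LinearEquiv.ofBijective (LinearMap.snd A ((Koszul.koszul A l).X 1 : ModuleCat.{u} A) ((Koszul.koszul A l).X 0 : ModuleCat.{u} A))
        ⟨fun a b h => Prod.ext (Subsingleton.elim _ _) h, fun b => ⟨(0, b), rfl⟩⟩
    let ε' : (Koszul.koszul A (f :: l)).X 0 ≃ₗ[A] A := (e₀.trans p).trans ε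
    let π' : (Koszul.koszul A (f :: l)).X (-1) →ₗ[A] (Fin (l.length + 1) → A) :=
      { toFun := fun x => Fin.cons (ε (e₁ x).1) (π (e₁ x).2)
        map_add' := fun x y => by
          have h : e₁ (x + y) = e₁ x + e₁ y := map_add e₁ x y
          funext i
          induction i using Fin.cases <;> simp [h]
        map_smul' := fun c x => by
          have h : e₁ (c • x) = c • e₁ x := map_smul e₁ c x
          funext i
          induction i using Fin.cases <;> simp [h] }
    refine ⟨ε', π', ?_, fun x => ?_, fun w => ?_⟩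
    · intro a
      obtain ⟨y, hy⟩ := hπ (Fin.tail a)
      obtain ⟨e, he⟩ := ε.surjective (a 0)
      refine ⟨e₁.symm (e, y), ?_⟩
      show Fin.cons (ε (e₁ (e₁.symm (e, y))).1) (π (e₁ (e₁.symm (e, y))).2) = a
      rw [e₁.apply_symm_apply, he, hy]
      exact Fin.cons_self_tail a
    · show ε (e₀ ((Koszul.koszul A (f :: l)).d (-1) 0 x)).2 = _
      rw [show e₀ ((Koszul.koszul A (f :: l)).d (-1) 0 x) = _ from koszul_cons_d f l (-1) 0 1 (by omega) rfl x,
        map_add, map_smul, smul_eq_mul, hd]
      refine Eq.trans ?_ (Fin.sum_univ_succ (f := fun i : Fin (l.length + 1) => π' x i * (f :: l).get i)).symm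
      simp [π', e₁, mul_comm]
    · show Fin.cons _ _ ∈ _
      rw [show e₁ ((Koszul.koszul A (f :: l)).d (-2) (-1) w) = _ from
        koszul_cons_d f l (-2) (-1) 0 (by omega) (by omega) w]
      set z := (e₂ w).1
      set y := (e₂ w).2
      show (Fin.cons (ε (-((Koszul.koszul A l).d (-1) 0 z))) (π (f • z + (Koszul.koszul A l).d (-2) (-1) y)) :
        Fin (l.length + 1) → A) ∈ _
      have key : ∀ v ∈ Submodule.span A (trivRel l.get),
          (Fin.cons (0 : A) v : Fin (l.length + 1) → A) ∈ Submodule.span A (trivRel (f :: l).get) := by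
        intro v hv
        induction hv using Submodule.span_induction with
        | mem v hv =>
          obtain ⟨i, j, rfl⟩ := hv
          refine Submodule.subset_span ⟨i.succ, j.succ, ?_⟩
          funext k
          induction k using Fin.cases with
          | zero => simp [Fin.succ_ne_zero]
          | succ k => simp [Pi.single_apply]
        | zero =>
          have h : (Fin.cons (0 : A) 0 : Fin (l.length + 1) → A) = 0 := by
            funext k; induction k using Fin.cases <;> simp
          rw [h]; exact zero_mem _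
        | add u v _ _ hu hv =>
          have h : (Fin.cons (0 : A) (u + v) : Fin (l.length + 1) → A) = Fin.cons 0 u + Fin.cons 0 v := by
            funext k; induction k using Fin.cases <;> simp
          rw [h]; exact add_mem hu hv
        | smul c u _ hu =>
          have h : (Fin.cons (0 : A) (c • u) : Fin (l.length + 1) → A) = c • Fin.cons (α := fun _ => A) 0 u := by
            funext k; induction k using Fin.cases <;> simp
          rw [h]; exact Submodule.smul_mem _ c hu
      have hz : (Fin.cons (ε (-((Koszul.koszul A l).d (-1) 0 z))) (π (f • z + (Koszul.koszul A l).d (-2) (-1) y)) :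
          Fin (l.length + 1) → A) = (∑ i : Fin l.length, π z i • (Pi.single i.succ ((f :: l).get 0) -
            Pi.single (0 : Fin (l.length + 1)) ((f :: l).get i.succ))) +
          Fin.cons 0 (π ((Koszul.koszul A l).d (-2) (-1) y)) := by
        funext k
        induction k using Fin.cases with
        | zero => simp [hd, Finset.sum_apply, Fin.succ_ne_zero, Ne.symm (Fin.succ_ne_zero _)]
        | succ k =>
          simp only [Fin.cons_succ, map_add, map_smul, Pi.add_apply, Pi.smul_apply, smul_eq_mul,
            Finset.sum_apply, Pi.sub_apply, Pi.single_apply, Fin.succ_inj, Fin.succ_ne_zero, if_false, sub_zero,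
            mul_ite, mul_zero, Finset.sum_ite_eq, Finset.mem_univ, if_true]
          simp [mul_comm]
      rw [hz]
      exact add_mem (Submodule.sum_mem _ fun i _ => Submodule.smul_mem _ _
        (Submodule.subset_span ⟨i.succ, 0, rfl⟩)) (key _ (ht y))

/-- Elementwise exactness of a complex of modules. -/
theorem exists_preimage_of_isZero_homology (E : CochainComplex (ModuleCat.{u} A) ℤ) (i j k : ℤ)
    (hij : i + 1 = j) (hjk : j + 1 = k) (h : IsZero (E.homology j)) (x : E.X j) (hx : E.d j k x = 0) :
    ∃ w, E.d i j w = x := by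
  rw [← HomologicalComplex.exactAt_iff_isZero_homology,
    HomologicalComplex.exactAt_iff' E i j k (by simp; omega) (by simp; omega),
    ShortComplex.moduleCat_exact_iff] at h
  exact h x hx

/-- Koszul-regular sequences are `H₁`-regular. -/
theorem isH1Regular_of_isKoszulRegular {l : List A} (h : LCI.IsKoszulRegularSeq A l) :
    CAlgX.IsH1Regular l.get := by
  intro a ha
  obtain ⟨ε, π, hπ, hd, ht⟩ := koszul_low l
  obtain ⟨x, rfl⟩ := hπ a
  have h0 : (Koszul.koszul A l).d (-1) 0 x = 0 := ε.injective (by rw [hd, map_zero]; exact ha)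
  obtain ⟨w, rfl⟩ := exists_preimage_of_isZero_homology _ (-2) (-1) 0 (by omega) (by omega)
    (h (-1) (by omega)) x h0
  exact ht w

theorem smul_mem_smul_top_of_free {M : Type u} [AddCommGroup M] [Module A M] [Module.Free A M]
    (I : Ideal A) (f : A) (hf : ∀ a, f * a ∈ I → a ∈ I) (x : M)
    (hx : f • x ∈ I • (⊤ : Submodule A M)) : x ∈ I • (⊤ : Submodule A M) := by
  let b := Module.Free.chooseBasis A M
  have hiff : ∀ y ∈ I • (⊤ : Submodule A M), ∀ i, b.repr y i ∈ I := by
    intro y hy
    refine Submodule.smul_induction_on hy (fun r hr n _ i => ?_) fun y z hy hz i => ?_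
    · simpa using I.mul_mem_right _ hr
    · simpa using I.add_mem (hy i) (hz i)
  rw [← b.linearCombination_repr x, Finsupp.linearCombination_apply]
  refine Submodule.sum_mem _ fun i _ => Submodule.smul_mem_smul (hf _ ?_) Submodule.mem_top
  simpa using hiff _ hx i

/-- The first step of a sequence regular modulo an ideal. -/
theorem regular_mod_cons (f : A) (l : List A) (I : Ideal A) (hl : IsWeaklyRegular (A ⧸ I) (f :: l)) :
    (∀ a, f * a ∈ I → a ∈ I) ∧ IsWeaklyRegular (A ⧸ (I ⊔ Ideal.span {f})) l := by
  rw [isWeaklyRegular_cons_iff] at hl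
  refine ⟨fun r hr => Ideal.Quotient.eq_zero_iff_mem.mp (hl.1
    (show f • Ideal.Quotient.mk I r = f • 0 by
      rw [smul_zero]; exact Ideal.Quotient.eq_zero_iff_mem.mpr hr)), ?_⟩
  let ψ : (A ⧸ I) →ₗ[A] A ⧸ (I ⊔ Ideal.span {f}) :=
    (Ideal.Quotient.factorₐ A (le_sup_left : I ≤ I ⊔ Ideal.span {f})).toLinearMap
  have hψ : Function.Surjective ψ := fun z => by
    obtain ⟨z, rfl⟩ := Ideal.Quotient.mk_surjective z
    exact ⟨Ideal.Quotient.mk I z, rfl⟩
  have hker : f • (⊤ : Submodule A (A ⧸ I)) = LinearMap.ker ψ := by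
    ext z
    obtain ⟨z, rfl⟩ := Ideal.Quotient.mk_surjective z
    rw [Submodule.mem_smul_pointwise_iff_exists, LinearMap.mem_ker,
      show ψ (Ideal.Quotient.mk I z) = Ideal.Quotient.mk _ z from rfl, Ideal.Quotient.eq_zero_iff_mem,
      Submodule.mem_sup]
    constructor
    · rintro ⟨y, -, hy⟩
      obtain ⟨y, rfl⟩ := Ideal.Quotient.mk_surjective y
      have h1 : f * y - z ∈ I := Ideal.Quotient.eq.mp hy
      exact ⟨-(f * y - z), I.neg_mem h1, f * y,
        Ideal.mul_mem_right y _ (Ideal.mem_span_singleton_self f), by ring⟩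
    · rintro ⟨a, ha, b, hb, rfl⟩
      obtain ⟨y, rfl⟩ := Ideal.mem_span_singleton'.mp hb
      refine ⟨Ideal.Quotient.mk I y, Submodule.mem_top, (Ideal.Quotient.eq (I := I) (x := f * y)).mpr ?_⟩
      rw [show f * y - (a + y * f) = -a by ring]
      exact I.neg_mem ha
  exact (LinearEquiv.isWeaklyRegular_congr
    ((Submodule.quotEquivOfEq _ _ hker).trans (ψ.quotKerEquivOfSurjective hψ)) l).mp hl.2

/-- For a sequence regular modulo `I`, the Koszul complex is exact modulo `I` in negative degrees. -/
theorem koszul_exact_mod : ∀ (l : List A) (I : Ideal A), IsWeaklyRegular (A ⧸ I) l →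
    ∀ (h i j : ℤ), h + 1 = i → i + 1 = j → i < 0 → ∀ b : (Koszul.koszul A l).X i,
      (Koszul.koszul A l).d i j b ∈ I • (⊤ : Submodule A ((Koszul.koszul A l).X j)) →
      ∃ c, b - (Koszul.koszul A l).d h i c ∈ I • (⊤ : Submodule A ((Koszul.koszul A l).X i))
  | [], I, _, h, i, j, hh, hi, hneg, b, _ => by
    haveI := ModuleCat.subsingleton_of_isZero (koszul_isZero ([] : List A) i (by simp; omega))
    exact ⟨0, by rw [Subsingleton.elim b 0, map_zero, sub_zero]; exact zero_mem _⟩
  | f :: l, I, hl, h, i, j, hh, hi, hneg, x, hx => by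
    obtain ⟨hfreg, hlJ⟩ := regular_mod_cons f l I hl
    let J := I ⊔ Ideal.span {f}
    let E := Koszul.koszul A l
    let eh := coneXEquiv (f • 𝟙 E) h i hh
    let ei := coneXEquiv (f • 𝟙 E) i j hi
    let ej := coneXEquiv (f • 𝟙 E) j (j + 1) rfl
    set a := (ei x).1 with ha
    set b := (ei x).2 with hb
    have hd : ej ((Koszul.koszul A (f :: l)).d i j x) = (-(E.d j (j + 1) a), f • a + E.d i j b) :=
      koszul_cons_d f l i j (j + 1) hi rfl x
    have htrans : ∀ {P Q : Type u} [AddCommGroup P] [Module A P] [AddCommGroup Q] [Module A Q]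
        (φ : P →ₗ[A] Q) (y : P), y ∈ I • (⊤ : Submodule A P) → φ y ∈ I • (⊤ : Submodule A Q) := by
      intro P Q _ _ _ _ φ y hy
      have := Submodule.mem_map_of_mem (f := φ) hy
      rw [Submodule.map_smul''] at this
      exact Submodule.smul_mono le_rfl le_top this
    have hfab : f • a + E.d i j b ∈ I • (⊤ : Submodule A (E.X j)) := by
      have h1 := htrans (LinearMap.snd A (E.X (j + 1) : ModuleCat.{u} A) (E.X j : ModuleCat.{u} A) ∘ₗ ej.toLinearMap) _ hx
      rwa [LinearMap.comp_apply, LinearEquiv.coe_coe, hd] at h1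
    have hdb : E.d i j b ∈ J • (⊤ : Submodule A (E.X j)) := by
      rw [show E.d i j b = (f • a + E.d i j b) - f • a by abel]
      exact sub_mem (Submodule.smul_mono le_sup_left le_rfl hfab)
        (Submodule.smul_mem_smul (Ideal.mem_sup_right (Ideal.mem_span_singleton_self f)) Submodule.mem_top)
    obtain ⟨c, hc⟩ := koszul_exact_mod l J hlJ h i j hh hi hneg b hdb
    rw [Submodule.sup_smul, Submodule.mem_sup, Submodule.ideal_span_singleton_smul] at hc
    obtain ⟨ι, hι, fe, hfe, hbc⟩ := hc
    obtain ⟨e, -, rfl⟩ := (Submodule.mem_smul_pointwise_iff_exists _ _ _).mp hfe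
    have hbc' : b = E.d h i c + ι + f • e := by rw [add_assoc, hbc]; abel
    have hdd : E.d i j (E.d h i c) = 0 := congrArg (fun g => g.hom c) (E.d_comp_d h i j)
    have hfa : f • (a + E.d i j e) ∈ I • (⊤ : Submodule A (E.X j)) := by
      rw [show f • (a + E.d i j e) = (f • a + E.d i j b) - E.d i j ι by
        rw [hbc', map_add, map_add, hdd, map_smul, smul_add]; abel]
      exact sub_mem hfab (htrans (E.d i j).hom _ hι)
    haveI := (koszul_finite_free l j).2
    have hae : a + E.d i j e ∈ I • (⊤ : Submodule A (E.X j)) := smul_mem_smul_top_of_free I f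
      hfreg _ hfa
    refine ⟨eh.symm (e, c), ?_⟩
    set y := x - (Koszul.koszul A (f :: l)).d h i (eh.symm (e, c)) with hy
    have hey : ei y = (a + E.d i j e, ι) := by
      have h1 : ei ((Koszul.koszul A (f :: l)).d h i (eh.symm (e, c))) =
          (-(E.d i j (eh (eh.symm (e, c))).1), f • (eh (eh.symm (e, c))).1 + E.d h i (eh (eh.symm (e, c))).2) :=
        koszul_cons_d f l h i j hh hi _
      rw [eh.apply_symm_apply] at h1
      rw [hy]
      refine (map_sub ei _ _).trans ?_
      refine (congrArg (ei x - ·) h1).trans (Prod.ext ?_ ?_)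
      · show a - -(E.d i j e) = a + E.d i j e
        exact sub_neg_eq_add _ _
      · show b - (f • e + E.d h i c) = ι
        rw [hbc']; abel
    have h2 := htrans ei.symm.toLinearMap (ei y) (by
      rw [hey, show ((a + E.d i j e, ι) : E.X j × E.X i) =
        LinearMap.inl A _ _ (a + E.d i j e) + LinearMap.inr A _ _ ι by simp]
      exact add_mem (htrans _ _ hae) (htrans _ _ hι))
    rwa [LinearEquiv.coe_coe, ei.symm_apply_apply] at h2

/-- Weakly regular sequences are Koszul-regular. -/
theorem isKoszulRegular_of_isWeaklyRegular {l : List A} (hl : IsWeaklyRegular A l) :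
    LCI.IsKoszulRegularSeq A l := by
  intro i hi
  rcases lt_or_gt_of_ne hi with hneg | hpos
  · rw [← HomologicalComplex.exactAt_iff_isZero_homology,
      HomologicalComplex.exactAt_iff' _ (i - 1) i (i + 1) (by simp) (by simp),
      ShortComplex.moduleCat_exact_iff]
    intro x hx
    have hl' : IsWeaklyRegular (A ⧸ (⊥ : Ideal A)) l :=
      (LinearEquiv.isWeaklyRegular_congr (AlgEquiv.quotientBot A A).toLinearEquiv l).mpr hl
    obtain ⟨c, hc⟩ := koszul_exact_mod l ⊥ hl' (i - 1) i (i + 1) (by omega) rfl hneg x (by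
      rw [show (Koszul.koszul A l).d i (i + 1) x = 0 from hx]; exact zero_mem _)
    rw [Submodule.bot_smul, Submodule.mem_bot, sub_eq_zero] at hc
    exact ⟨c, hc.symm⟩
  · rw [← HomologicalComplex.exactAt_iff_isZero_homology]
    exact HomologicalComplex.ExactAt.of_isZero (koszul_isZero l i (Or.inr hpos))

end Groth.Agent.H29Slice
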