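import Groth.Agent.H13CInt.QuasiReg
import Mathlib

/-!
# Quasi-regular sequences in the Jacobson radical of a Noetherian ring are regular
-/

set_option autoImplicit false
set_option linter.style.haveILetI false
universe u

open MvPolynomial RingTheory.Sequence

open scoped Pointwise

namespace Groth.Agent.H29Slice

variable {A : Type u} [CommRing A] {r : ℕ}

/-- Division by the first element of a quasi-regular sequence lowers the order by one. -/
theorem mem_pow_of_mul_head {f : Fin (r + 1) → A} (hq : CAlgX.IsQuasiRegular f) {a : A} :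
    ∀ n, a * f 0 ∈ Ideal.span (Set.range f) ^ (n + 1) → a ∈ Ideal.span (Set.range f) ^ n := by
  intro n
  induction n with
  | zero => intro _; simp [Ideal.one_eq_top]
  | succ n ih =>
    intro h
    obtain ⟨P, hP, rfl⟩ := Groth.Agent.H06QR.exists_homogeneous f
      (ih (Ideal.pow_le_pow_right (Nat.le_succ _) h))
    refine H13CInt.eval_mem_succ hP fun d => ?_
    have hX : (X 0 * P).IsHomogeneous (n + 1) := by
      simpa only [Nat.add_comm] using (isHomogeneous_X A (0 : Fin (r + 1))).mul hP
    have h1 := hq (n + 1) (X 0 * P) hX (by rw [map_mul, eval_X, mul_comm]; exact h)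
      (Finsupp.single 0 1 + d)
    rwa [coeff_X_mul] at h1

theorem image_span (f : Fin (r + 1) → A) :
    (Ideal.span (Set.range f)).map (Ideal.Quotient.mk (Ideal.span {f 0})) =
      Ideal.span (Set.range fun i : Fin r => Ideal.Quotient.mk (Ideal.span {f 0}) (f i.succ)) := by
  rw [Ideal.map_span, ← Set.range_comp]
  refine le_antisymm (Ideal.span_le.mpr ?_) (Ideal.span_mono ?_)
  · rintro _ ⟨i, rfl⟩
    induction i using Fin.cases with
    | zero =>
      rw [SetLike.mem_coe, Function.comp_apply,
        Ideal.Quotient.eq_zero_iff_mem.mpr (Ideal.mem_span_singleton_self (f 0))]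
      exact zero_mem _
    | succ i => exact Ideal.subset_span ⟨i, rfl⟩
  · rintro _ ⟨i, rfl⟩
    exact ⟨i.succ, rfl⟩

/-- Quasi-regularity passes to the quotient by the first element. -/
theorem isQuasiRegular_quotient_head {f : Fin (r + 1) → A} (hq : CAlgX.IsQuasiRegular f) :
    CAlgX.IsQuasiRegular (fun i : Fin r => Ideal.Quotient.mk (Ideal.span {f 0}) (f i.succ)) := by
  classical
  set π := Ideal.Quotient.mk (Ideal.span {f 0})
  intro n P' hP' he d
  choose c hc using fun e => Ideal.Quotient.mk_surjective (I := Ideal.span {f 0}) (P'.coeff e)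
  let P : MvPolynomial (Fin r) A := ∑ e ∈ P'.support, monomial e (c e)
  have hP : P.IsHomogeneous n := IsHomogeneous.sum _ _ _ fun e he => isHomogeneous_monomial _ (by
    rw [Finsupp.degree_apply]; exact (hP'.degree_eq_sum_deg_support he).symm)
  have hmap : MvPolynomial.map π P = P' := by
    conv_rhs => rw [P'.as_sum]
    rw [map_sum]
    exact Finset.sum_congr rfl fun e _ => by rw [map_monomial, hc]
  set x := eval (fun i : Fin r => f i.succ) P
  have h1 : π x ∈ ((Ideal.span (Set.range f)) ^ (n + 1)).map π := by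
    rw [Ideal.map_pow, image_span, MvPolynomial.map_eval, hmap]
    exact he
  obtain ⟨j, hj, hjx⟩ := (Ideal.mem_map_iff_of_surjective _ Ideal.Quotient.mk_surjective).mp h1
  obtain ⟨a, ha⟩ := Ideal.mem_span_singleton'.mp ((Ideal.Quotient.eq).mp hjx.symm)
  rw [← image_span, ← hmap, coeff_map]
  refine Ideal.mem_map_of_mem _ ?_
  have hren : (rename Fin.succ P).IsHomogeneous n := hP.rename_isHomogeneous
  have heren : eval f (rename Fin.succ P) = x := eval_rename _ _ _
  have hcoef : (rename Fin.succ P).coeff (d.mapDomain Fin.succ) = P.coeff d :=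
    coeff_rename_mapDomain _ (Fin.succ_injective r) _ _
  cases n with
  | zero =>
    rw [← hcoef]
    refine hq 0 _ hren ?_ _
    rw [heren, show x = a * f 0 + j by rw [ha]; ring]
    rw [zero_add, pow_one] at hj ⊢
    exact add_mem (Ideal.mul_mem_left _ _ (Ideal.subset_span ⟨0, rfl⟩)) hj
  | succ m =>
    have hxm : x ∈ Ideal.span (Set.range f) ^ (m + 1) := heren ▸ Groth.Agent.H06QR.eval_mem f hren
    have ha1 : a * f 0 ∈ Ideal.span (Set.range f) ^ (m + 1) :=
      ha.symm ▸ sub_mem hxm (Ideal.pow_le_pow_right (Nat.le_succ _) hj)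
    obtain ⟨Q, hQ, rfl⟩ := Groth.Agent.H06QR.exists_homogeneous f (mem_pow_of_mul_head hq m ha1)
    have hXQ : (X 0 * Q).IsHomogeneous (m + 1) := by
      simpa only [Nat.add_comm] using (isHomogeneous_X A (0 : Fin (r + 1))).mul hQ
    have h2 := hq (m + 1) (rename Fin.succ P - X 0 * Q) (hren.sub hXQ)
      (by rw [map_sub, map_mul, eval_X, heren, mul_comm (f 0), ha, sub_sub_cancel]; exact hj)
      (d.mapDomain Fin.succ)
    have h0 : (0 : Fin (r + 1)) ∉ (d.mapDomain Fin.succ).support := by
      rw [Finsupp.mem_support_iff, not_not]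
      refine Finsupp.mapDomain_of_notMem_range _ _ ?_
      rintro ⟨i, hi⟩
      exact Fin.succ_ne_zero i hi
    rw [coeff_sub, coeff_X_mul', if_neg h0, sub_zero, hcoef] at h2
    exact h2

/-- A quasi-regular sequence in the Jacobson radical of a Noetherian ring is regular. -/
theorem isWeaklyRegular_of_isQuasiRegular : ∀ {r : ℕ} (A : Type u) [CommRing A] [IsNoetherianRing A]
    (f : Fin r → A), (∀ i, f i ∈ (⊥ : Ideal A).jacobson) → CAlgX.IsQuasiRegular f →
      IsWeaklyRegular A (List.ofFn f) := by
  intro r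
  induction r with
  | zero => intro A _ _ f _ _; simp
  | succ r ih =>
    intro A _ _ f hf hq
    rw [List.ofFn_succ, isWeaklyRegular_cons_iff]
    have hle : Ideal.span (Set.range f) ≤ (⊥ : Ideal A).jacobson :=
      Ideal.span_le.mpr (by rintro _ ⟨i, rfl⟩; exact hf i)
    refine ⟨IsSMulRegular.of_right_eq_zero_of_smul fun a ha => ?_, ?_⟩
    · rw [smul_eq_mul, mul_comm] at ha
      have h1 : ∀ n, a ∈ Ideal.span (Set.range f) ^ n • (⊤ : Submodule A A) := fun n => by
        rw [smul_eq_mul, Ideal.mul_top]
        exact mem_pow_of_mul_head hq n (ha ▸ zero_mem _)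
      exact (Submodule.mem_bot A).mp (Ideal.iInf_pow_smul_eq_bot_of_le_jacobson (M := A) _ hle ▸
        (Submodule.mem_iInf _).mpr h1)
    · have hsurj : Function.Surjective (algebraMap A (A ⧸ Ideal.span {f 0})) := Ideal.Quotient.mk_surjective
      have h2 := ih (A ⧸ Ideal.span {f 0}) (fun i => Ideal.Quotient.mk _ (f i.succ)) (fun i => by
        rw [Ideal.mem_jacobson_bot]
        intro y
        obtain ⟨y, rfl⟩ := Ideal.Quotient.mk_surjective y
        rw [← map_mul, ← map_one (Ideal.Quotient.mk (Ideal.span {f 0})), ← map_add]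
        exact ((Ideal.mem_jacobson_bot.mp (hf i.succ)) y).map _) (isQuasiRegular_quotient_head hq)
      have h3 : IsWeaklyRegular (A ⧸ Ideal.span {f 0}) (List.ofFn fun i : Fin r => f i.succ) := by
        rw [← isWeaklyRegular_map_algebraMap_iff (A ⧸ Ideal.span {f 0}), List.map_ofFn]
        exact h2
      have e : (f 0 • (⊤ : Submodule A A)) = (Ideal.span {f 0} : Ideal A) := by
        rw [← Submodule.ideal_span_singleton_smul]
        exact Ideal.mul_top _
      exact (LinearEquiv.isWeaklyRegular_congr (Submodule.quotEquivOfEq _ _ e) _).mpr h3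

end Groth.Agent.H29Slice
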