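import Groth.Agent.H29Slice.Scheme
import Groth.Agent.H29Blow.Basic
import Groth.Agent.H29Blow.Relative
import Groth.Prelude.Def_BlowUp2
import Mathlib

/-!
# Ideal sheaves that are effective Cartier on a fibre
-/

set_option autoImplicit false
set_option linter.style.haveILetI false
universe u

open AlgebraicGeometry CategoryTheory CategoryTheory.Limits IsLocalRing TopologicalSpace

namespace Groth.Agent.H29Slice

/-- In a local ring, if an ideal generated by the image of `J` is generated by a nonzerodivisor,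
then the image of an element of `J` is a regular generator. -/
theorem exists_mem_regular_generator {B R : Type u} [CommRing B] [CommRing R] [IsLocalRing R]
    (ψ : B →+* R) (J : Ideal B) (g : R) (hg : g ∈ nonZeroDivisors R) (hJ : J.map ψ = Ideal.span {g}) :
    ∃ j ∈ J, ψ j ∈ nonZeroDivisors R ∧ J.map ψ = Ideal.span {ψ j} := by
  by_contra! hne
  have hle : J.map ψ ≤ Ideal.span {g} * maximalIdeal R := by
    refine Ideal.map_le_iff_le_comap.mpr fun j hj => ?_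
    obtain ⟨d, hd⟩ := Ideal.mem_span_singleton'.mp (hJ ▸ Ideal.mem_map_of_mem ψ hj)
    by_cases hu : IsUnit d
    · refine absurd ?_ (hne j hj (hd ▸ mul_mem hu.mem_nonZeroDivisors hg))
      rw [hJ, ← hd, Ideal.span_singleton_mul_left_unit hu]
    · rw [Ideal.mem_comap, ← hd, mul_comm d g]
      exact Ideal.mul_mem_mul (I := Ideal.span {g}) (Ideal.mem_span_singleton_self g) ((mem_maximalIdeal d).mpr hu)
  obtain ⟨μ, hμ, hμg⟩ := Ideal.mem_span_singleton_mul.mp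
    (hle (hJ ▸ Ideal.mem_span_singleton_self g))
  have h1 : g * (1 - μ) = 0 := by rw [mul_sub, mul_one, hμg, sub_self]
  have h2 : (1 : R) - μ = 0 := (mem_nonZeroDivisors_iff.mp hg).1 _ h1
  exact (maximalIdeal.isMaximal R).ne_top ((Ideal.eq_top_iff_one _).mpr (by rwa [sub_eq_zero.mp h2]))

/-- If the inverse image on the fibre through `x` is effective Cartier, an element of the ideal
is a generator regular on the fibre. -/
theorem exists_fibre_generator {X S : Scheme.{u}} (f : X ⟶ S) (𝓘 : X.IdealSheafData) (x : X)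
    (hfib : BlowUp.IsEffCartierIdeal (𝓘.comap (f.fiberι (f x)))) (U : X.affineOpens) (hx : x ∈ U.1) :
    ∃ j ∈ 𝓘.ideal U,
      Ideal.Quotient.mk (Ideal.map (f.stalkMap x).hom (maximalIdeal (S.presheaf.stalk (f x))))
        (X.presheaf.germ U.1 x hx j) ∈ nonZeroDivisors
          (X.presheaf.stalk x ⧸ Ideal.map (f.stalkMap x).hom (maximalIdeal (S.presheaf.stalk (f x)))) ∧
      ∀ k ∈ 𝓘.ideal U, X.presheaf.germ U.1 x hx k ∈
        Ideal.span {X.presheaf.germ U.1 x hx j} ⊔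
          Ideal.map (f.stalkMap x).hom (maximalIdeal (S.presheaf.stalk (f x))) := by
  let z := f.asFiber x
  have hz : f.fiberι (f x) z = x := f.fiberι_asFiber x
  let I := Ideal.map (f.stalkMap x).hom (maximalIdeal (S.presheaf.stalk (f x)))
  obtain ⟨V, hzV, e, a, ha, haV⟩ := _root_.H29Blow.exists_gen hfib (x := z)
    (W := f.fiberι (f x) ⁻¹ᵁ U.1) (show f.fiberι (f x) z ∈ U.1 from hz.symm ▸ hx)
  let τ := H8Props.FibreStalk.toFibre f x (f x) z hz
  let ψ : Γ(X, U.1) →+* (f.fiber (f x)).presheaf.stalk z :=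
    τ.hom.comp (X.presheaf.germ U.1 x hx).hom
  let gV := ((f.fiber (f x)).presheaf.germ V.1 z hzV).hom
  have hψ : ψ = gV.comp ((f.fiberι (f x)).appLE U.1 V.1 e).hom := by
    refine RingHom.ext fun k => ?_
    show τ.hom (X.presheaf.germ U.1 x hx k) =
      (f.fiber (f x)).presheaf.germ V.1 z hzV ((f.fiberι (f x)).appLE U.1 V.1 e k)
    rw [H8Props.FibreStalk.germ_toFibre f x (f x) z hz U.1 hx k]
    exact (TopCat.Presheaf.germ_res_apply (f.fiber (f x)).presheaf (homOfLE e) z hzV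
      ((f.fiberι (f x)).app U.1 k)).symm
  have hJ : (𝓘.ideal U).map ψ = Ideal.span {gV a} := by
    rw [hψ, ← Ideal.map_map, ← _root_.H29Blow.ideal_comap 𝓘 _ U V e, haV, Ideal.map_span, Set.image_singleton]
  have hg : gV a ∈ nonZeroDivisors ((f.fiber (f x)).presheaf.stalk z) := by
    letI : Algebra Γ(f.fiber (f x), V.1) ((f.fiber (f x)).presheaf.stalk z) := gV.toAlgebra
    haveI := V.2.isLocalization_stalk ⟨z, hzV⟩
    haveI : Module.Flat Γ(f.fiber (f x), V.1) ((f.fiber (f x)).presheaf.stalk z) :=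
      IsLocalization.flat _ (V.2.primeIdealOf ⟨z, hzV⟩).asIdeal.primeCompl
    exact _root_.H29Blow.mem_nonZeroDivisors_map_of_flat (φ := gV) (RingHom.flat_algebraMap_iff.mpr this) ha
  obtain ⟨j, hj, hjreg, hjgen⟩ := exists_mem_regular_generator ψ _ _ hg hJ
  have hker : RingHom.ker τ.hom = I := H8Props.FibreStalk.ker_toFibre f x z hz
  refine ⟨j, hj, mem_nonZeroDivisors_iff_right.mpr fun m hm => ?_, fun k hk => ?_⟩
  · obtain ⟨m, rfl⟩ := Ideal.Quotient.mk_surjective m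
    rw [← map_mul, Ideal.Quotient.eq_zero_iff_mem] at hm
    rw [Ideal.Quotient.eq_zero_iff_mem]
    have h1 : τ.hom (m * X.presheaf.germ U.1 x hx j) = 0 := hker.ge hm
    rw [map_mul] at h1
    exact hker.le ((mem_nonZeroDivisors_iff_right.mp hjreg) _ h1)
  · obtain ⟨c, hc⟩ := Ideal.mem_span_singleton'.mp (hjgen ▸ Ideal.mem_map_of_mem ψ hk)
    obtain ⟨c, rfl⟩ := H8Props.FibreStalk.toFibre_surjective f x (f x) z hz c
    refine Submodule.mem_sup.mpr ⟨c * X.presheaf.germ U.1 x hx j,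
      Ideal.mul_mem_left _ _ (Ideal.mem_span_singleton_self _),
      X.presheaf.germ U.1 x hx k - c * X.presheaf.germ U.1 x hx j, ?_, add_sub_cancel _ _⟩
    refine hker.le ?_
    rw [RingHom.mem_ker, map_sub, map_mul, sub_eq_zero]
    exact hc.symm

/-- `J ∩ pB = pJ` if `B/J` is flat. -/
theorem inf_map_le_of_flat_quotient {A B : Type u} [CommRing A] [CommRing B] [Algebra A B]
    (J : Ideal B) [Module.Flat A (B ⧸ J)] (p : Ideal A) :
    J ⊓ p.map (algebraMap A B) ≤ p.map (algebraMap A B) * J := by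
  rintro x ⟨hxJ, hxp⟩
  obtain ⟨n, a, b, rfl⟩ : ∃ (n : ℕ) (a : Fin n → p) (b : Fin n → B), x = ∑ i, (a i : A) • b i := by
    rw [SetLike.mem_coe, Ideal.map, Ideal.span, Submodule.mem_span_set'] at hxp
    obtain ⟨n, c, g, hg⟩ := hxp
    choose a ha hga using fun i => (g i).2
    refine ⟨n, fun i => ⟨a i, ha i⟩, c, hg.symm.trans (Finset.sum_congr rfl fun i _ => ?_)⟩
    rw [smul_eq_mul, ← hga, Algebra.smul_def, mul_comm]
  have hrel : ∑ i, (a i : A) • Ideal.Quotient.mk J (b i) = 0 := by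
    rw [← (Ideal.Quotient.eq_zero_iff_mem.mpr hxJ), map_sum]
    exact Finset.sum_congr rfl fun i _ => rfl
  obtain ⟨k, c, y, hy, hc⟩ := Module.Flat.isTrivialRelation_of_sum_smul_eq_zero (R := A) (M := B ⧸ J) (f := fun i => (a i : A)) (x := fun i => Ideal.Quotient.mk J (b i)) hrel
  choose Y hY using fun j => Ideal.Quotient.mk_surjective (I := J) (y j)
  have hmem : ∀ i, b i - ∑ j, c i j • Y j ∈ J := fun i => by
    rw [← Ideal.Quotient.eq_zero_iff_mem, map_sub, map_sum, sub_eq_zero,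
      show Ideal.Quotient.mk J (b i) = _ from hy i]
    exact Finset.sum_congr rfl fun j _ => by rw [← hY]; rfl
  have hx : ∑ i, (a i : A) • b i = ∑ i, algebraMap A B (a i) * (b i - ∑ j, c i j • Y j) := by
    simp only [mul_sub, ← Algebra.smul_def, Finset.sum_sub_distrib, Finset.smul_sum, smul_smul]
    rw [Finset.sum_comm, eq_comm, sub_eq_self]
    refine Finset.sum_eq_zero fun j _ => ?_
    rw [← Finset.sum_smul, hc j, zero_smul]
  rw [hx]
  exact Ideal.sum_mem _ fun i _ => Ideal.mul_mem_mul (Ideal.mem_map_of_mem _ (a i).2) (hmem i)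

end Groth.Agent.H29Slice

namespace Groth.Agent.H29Slice

variable {X S : Scheme.{u}}

/-- Near a point off the support the ideal is the unit ideal. -/
theorem exists_unit_generator_of_notMem_support (𝓘 : X.IdealSheafData) (x : X) (hx : x ∉ 𝓘.support) :
    ∃ U : X.affineOpens, x ∈ U.1 ∧ ∃ f : Γ(X, U.1), f ∈ nonZeroDivisors Γ(X, U.1) ∧ 𝓘.ideal U = Ideal.span {f} := by
  obtain ⟨W, hW, hxW, -⟩ := exists_isAffineOpen_mem_and_subset (Opens.mem_top x)
  have h1 : x ∉ X.zeroLocus (U := W) (𝓘.ideal ⟨W, hW⟩) :=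
    fun h => hx ((Scheme.IdealSheafData.mem_support_iff_of_mem (U := ⟨W, hW⟩) hxW).mpr h)
  rw [Scheme.mem_zeroLocus_iff] at h1
  push Not at h1
  obtain ⟨r, hr, hxr⟩ := h1
  refine ⟨⟨X.basicOpen r, hW.basicOpen r⟩, hxr, 1, one_mem _, ?_⟩
  rw [Ideal.span_singleton_one]
  refine Ideal.eq_top_of_isUnit_mem _ (?_ : (X.presheaf.map (homOfLE (X.basicOpen_le r)).op).hom r ∈ _)
    (X.toRingedSpace.isUnit_res_basicOpen r)
  rw [← 𝓘.map_ideal (U := ⟨X.basicOpen r, hW.basicOpen r⟩) (V := ⟨W, hW⟩) (X.basicOpen_le r)]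
  exact Ideal.mem_map_of_mem _ hr

/-- A locally principal ideal whose inverse image on the fibre through a point of its support is
effective Cartier is effective Cartier with flat quotient near that point. -/
theorem exists_cartier_nhd (φ : X ⟶ S) [Flat φ] [LocallyOfFinitePresentation φ]
    (𝓘 : X.IdealSheafData) (x : X) (hx : x ∈ 𝓘.support)
    (hfib : BlowUp.IsEffCartierIdeal (𝓘.comap (φ.fiberι (φ x))))
    (U₀ : X.affineOpens) (hxU₀ : x ∈ U₀.1) (a₀ : Γ(X, U₀.1)) (ha₀ : 𝓘.ideal U₀ = Ideal.span {a₀}) :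
    ∃ (V : S.affineOpens) (U : X.affineOpens) (_ : x ∈ U.1) (e : U.1 ≤ φ ⁻¹ᵁ V.1) (a : Γ(X, U.1)),
      a ∈ nonZeroDivisors Γ(X, U.1) ∧ 𝓘.ideal U = Ideal.span {a} ∧
        ((Ideal.Quotient.mk (𝓘.ideal U)).comp (φ.appLE V.1 U.1 e).hom).Flat := by
  obtain ⟨W, hW, hxW, -⟩ := exists_isAffineOpen_mem_and_subset (Opens.mem_top (φ x))
  obtain ⟨U', hU', hxU', hU'le⟩ := exists_isAffineOpen_mem_and_subset (U := U₀.1 ⊓ φ ⁻¹ᵁ W) (x := x)
    ⟨hxU₀, hxW⟩
  have e : U' ≤ φ ⁻¹ᵁ W := fun y hy => (hU'le hy).2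
  have hle₀ : U' ≤ U₀.1 := fun y hy => (hU'le hy).1
  let U : X.affineOpens := ⟨U', hU'⟩
  let a := (X.presheaf.map (homOfLE hle₀).op).hom a₀
  have haU : 𝓘.ideal U = Ideal.span {a} := _root_.H29Blow.ideal_eq_span_res (W := U) hle₀ ha₀
  obtain ⟨j, hj, hjreg, -⟩ := exists_fibre_generator φ 𝓘 x hfib U hxU'
  obtain ⟨c, rfl⟩ := Ideal.mem_span_singleton'.mp (haU ▸ hj)
  have hareg : Ideal.Quotient.mk (Ideal.map (φ.stalkMap x).hom (maximalIdeal (S.presheaf.stalk (φ x))))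
      (X.presheaf.germ U' x hxU' a) ∈ nonZeroDivisors _ := by
    rw [map_mul, map_mul] at hjreg
    exact (mul_mem_nonZeroDivisors.mp hjreg).2
  have ham : X.presheaf.germ U' x hxU' a ∈ maximalIdeal (X.presheaf.stalk x) := by
    have h := (Scheme.IdealSheafData.mem_support_iff_of_mem (U := U) hxU').mp hx
    rw [Scheme.mem_zeroLocus_iff] at h
    have h2 := h a (haU ▸ Ideal.mem_span_singleton_self a)
    rw [X.mem_basicOpen _ x hxU'] at h2
    exact (mem_maximalIdeal _).mpr h2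
  obtain ⟨b, hxb, hnzd, hfl⟩ := exists_slice_scheme φ hW hU' e
    (_root_.H29Blow.flat_appLE' φ ⟨W, hW⟩ U e) x hxU' a ham hareg
  let U₂ : X.affineOpens := ⟨X.basicOpen b, hU'.basicOpen b⟩
  have hgen : 𝓘.ideal U₂ = Ideal.span {(X.presheaf.map (homOfLE (X.basicOpen_le b)).op).hom a} :=
    _root_.H29Blow.ideal_eq_span_res (V := U) (W := U₂) (X.basicOpen_le b) haU
  have key : ∀ (J : Ideal Γ(X, U₂.1)), J = Ideal.span {(X.presheaf.map (homOfLE (X.basicOpen_le b)).op).hom a} →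
      ((Ideal.Quotient.mk J).comp (φ.appLE W U₂.1 ((X.basicOpen_le b).trans e)).hom).Flat := by
    rintro J rfl
    exact hfl
  exact ⟨⟨W, hW⟩, U₂, hxb, (X.basicOpen_le b).trans e,
    (X.presheaf.map (homOfLE (X.basicOpen_le b)).op).hom a, hnzd, hgen, key _ hgen⟩

/-- A locally principal ideal, effective Cartier on all fibres, cuts out a relative effective
Cartier divisor. -/
theorem isEffCartier_and_flat_of_fibres (φ : X ⟶ S) [Flat φ] [LocallyOfFinitePresentation φ]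
    (𝓘 : X.IdealSheafData)
    (hZ : ∀ x ∈ 𝓘.support, ∃ U : X.affineOpens, x ∈ U.1 ∧ ∃ f : Γ(X, U.1), 𝓘.ideal U = Ideal.span {f})
    (hfib : ∀ s : S, BlowUp.IsEffCartierIdeal (𝓘.comap (φ.fiberι s))) :
    BlowUp.IsEffCartierIdeal 𝓘 ∧ Flat (𝓘.subschemeι ≫ φ) := by
  refine ⟨fun x => ?_, (_root_.H29Blow.flat_subscheme_iff φ 𝓘).mpr fun x hx => ?_⟩
  · by_cases hx : x ∈ 𝓘.support
    · obtain ⟨U₀, hxU₀, a₀, ha₀⟩ := hZ x hx
      obtain ⟨V, U, hxU, e, a, ha, haU, -⟩ := exists_cartier_nhd φ 𝓘 x hx (hfib _) U₀ hxU₀ a₀ ha₀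
      exact ⟨U, hxU, a, ha, haU⟩
    · exact exists_unit_generator_of_notMem_support 𝓘 x hx
  · obtain ⟨U₀, hxU₀, a₀, ha₀⟩ := hZ x hx
    obtain ⟨V, U, hxU, e, -, -, -, hfl⟩ := exists_cartier_nhd φ 𝓘 x hx (hfib _) U₀ hxU₀ a₀ ha₀
    exact ⟨V, U, hxU, e, hfl⟩

/-- An ideal of finite type with flat quotient, effective Cartier on the fibre at a point, is
principal near that point. -/
theorem exists_principal_nhd (φ : X ⟶ S) (𝓘 : X.IdealSheafData) [Flat (𝓘.subschemeι ≫ φ)] (x : X)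
    (hfib : BlowUp.IsEffCartierIdeal (𝓘.comap (φ.fiberι (φ x))))
    (hfg : ∀ U : X.affineOpens, x ∈ U.1 → ∃ U' : X.affineOpens, x ∈ U'.1 ∧ U'.1 ≤ U.1 ∧ (𝓘.ideal U').FG) :
    ∃ U : X.affineOpens, x ∈ U.1 ∧ ∃ f : Γ(X, U.1), 𝓘.ideal U = Ideal.span {f} := by
  classical
  obtain ⟨W, hW, hxW, -⟩ := exists_isAffineOpen_mem_and_subset (Opens.mem_top (φ x))
  obtain ⟨U₁, hU₁, hxU₁, hU₁le⟩ := exists_isAffineOpen_mem_and_subset (U := φ ⁻¹ᵁ W) (x := x) hxW
  obtain ⟨U, hxU, hUle, hUfg⟩ := hfg ⟨U₁, hU₁⟩ hxU₁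
  have e : U.1 ≤ φ ⁻¹ᵁ W := hUle.trans hU₁le
  obtain ⟨j, hj, -, hgen⟩ := exists_fibre_generator φ 𝓘 x hfib U hxU
  letI : Algebra Γ(S, W) Γ(X, U.1) := (φ.appLE W U.1 e).hom.toAlgebra
  haveI : Module.Flat Γ(S, W) (Γ(X, U.1) ⧸ 𝓘.ideal U) :=
    _root_.H29Blow.flat_appLE_quot φ 𝓘 ⟨W, hW⟩ U e
  let J := 𝓘.ideal U
  let γ := (X.presheaf.germ U.1 x hxU).hom
  let q := U.2.primeIdealOf ⟨x, hxU⟩
  letI : Algebra Γ(X, U.1) (X.presheaf.stalk x) := γ.toAlgebra
  haveI : IsLocalization.AtPrime (X.presheaf.stalk x) q.asIdeal := U.2.isLocalization_stalk ⟨x, hxU⟩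
  let δ := (S.presheaf.germ W (φ x) (e hxU)).hom
  letI : Algebra Γ(S, W) (S.presheaf.stalk (φ x)) := δ.toAlgebra
  haveI : IsLocalization.AtPrime (S.presheaf.stalk (φ x)) (hW.primeIdealOf ⟨φ x, e hxU⟩).asIdeal :=
    hW.isLocalization_stalk ⟨φ x, e hxU⟩
  let p := (hW.primeIdealOf ⟨φ x, e hxU⟩).asIdeal
  let I := Ideal.map (φ.stalkMap x).hom (maximalIdeal (S.presheaf.stalk (φ x)))
  have hI : I = (p.map (algebraMap Γ(S, W) Γ(X, U.1))).map γ := by
    show Ideal.map _ _ = _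
    rw [← IsLocalization.AtPrime.map_eq_maximalIdeal p (S.presheaf.stalk (φ x)), Ideal.map_map, Ideal.map_map]
    refine congrArg₂ Ideal.map (RingHom.ext fun s => ?_) rfl
    show φ.stalkMap x (S.presheaf.germ W (φ x) (e hxU) s) = X.presheaf.germ U.1 x hxU (φ.appLE W U.1 e s)
    rw [Scheme.Hom.germ_stalkMap_apply]
    simp [Scheme.Hom.appLE]
  let Jx := J.map γ
  have hJle : Jx ≤ Ideal.span {γ j} ⊔ maximalIdeal (X.presheaf.stalk x) • Jx := by
    intro y hy
    obtain ⟨u, hu, v, hv, rfl⟩ := Submodule.mem_sup.mp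
      ((Ideal.map_le_iff_le_comap.mpr fun k hk => hgen k hk : Jx ≤ Ideal.span {γ j} ⊔ I) hy)
    refine Submodule.mem_sup.mpr ⟨u, hu, v, ?_, rfl⟩
    have hvJ : v ∈ Jx := by
      have hule : Ideal.span {γ j} ≤ Jx :=
        (Ideal.span_singleton_le_iff_mem _).mpr (Ideal.mem_map_of_mem γ hj)
      simpa using sub_mem hy (hule hu)
    obtain ⟨⟨k, t⟩, hkt⟩ := IsLocalization.surj q.asIdeal.primeCompl v
    have hu' : IsUnit (γ t) := IsLocalization.map_units (M := q.asIdeal.primeCompl) (X.presheaf.stalk x) t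
    have hkt' : v * γ t = γ k := hkt
    have h1 : γ k ∈ J.map γ := hkt' ▸ Ideal.mul_mem_right _ _ hvJ
    have h2 : γ k ∈ (p.map (algebraMap Γ(S, W) Γ(X, U.1))).map γ := hkt' ▸ hI ▸ Ideal.mul_mem_right _ _ hv
    obtain ⟨s₁, hs₁, h1'⟩ := (IsLocalization.algebraMap_mem_map_algebraMap_iff q.asIdeal.primeCompl
      (X.presheaf.stalk x) _ _).mp h1
    obtain ⟨s₂, hs₂, h2'⟩ := (IsLocalization.algebraMap_mem_map_algebraMap_iff q.asIdeal.primeCompl
      (X.presheaf.stalk x) _ _).mp h2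
    have h3 := inf_map_le_of_flat_quotient J p
      (show s₁ * s₂ * k ∈ J ⊓ p.map (algebraMap Γ(S, W) Γ(X, U.1)) from
        ⟨by rw [mul_right_comm]; exact Ideal.mul_mem_right _ _ h1',
          by rw [mul_assoc]; exact Ideal.mul_mem_left _ _ h2'⟩)
    have h4 := Ideal.mem_map_of_mem γ h3
    rw [Ideal.map_mul, ← hI, map_mul, map_mul, ← hkt', mul_comm v, ← mul_assoc] at h4
    have h5 : v ∈ I * Jx := (Ideal.unit_mul_mem_iff_mem _ (((IsLocalization.map_units
      (M := q.asIdeal.primeCompl) (X.presheaf.stalk x) ⟨s₁, hs₁⟩).mul (IsLocalization.map_units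
      (M := q.asIdeal.primeCompl) (X.presheaf.stalk x) ⟨s₂, hs₂⟩)).mul hu')).mp h4
    rw [smul_eq_mul]
    exact Ideal.mul_mono_left (map_maximalIdeal_le (φ.stalkMap x).hom) h5
  have hJx : Jx ≤ Ideal.span {γ j} := Submodule.le_of_le_smul_of_le_jacobson_bot (hUfg.map γ)
    (IsLocalRing.maximalIdeal_le_jacobson _) hJle
  obtain ⟨G, hG⟩ := hUfg
  have hgen' : ∀ g : G, ∃ t ∈ q.asIdeal.primeCompl, t * (g : Γ(X, U.1)) ∈ Ideal.span {j} := fun g => by
    refine (IsLocalization.algebraMap_mem_map_algebraMap_iff q.asIdeal.primeCompl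
      (X.presheaf.stalk x) _ _).mp ?_
    rw [Ideal.map_span, Set.image_singleton]
    exact hJx (Ideal.mem_map_of_mem γ (hG.le (Ideal.subset_span g.2)))
  choose t ht htg using hgen'
  let b := ∏ g, t g
  have hb : b ∉ q.asIdeal := prod_mem (S := q.asIdeal.primeCompl) fun g _ => ht g
  refine ⟨⟨X.basicOpen b, U.2.basicOpen b⟩, ?_, (X.presheaf.map (homOfLE (X.basicOpen_le b)).op).hom j, ?_⟩
  · have h0 : q ∈ U.2.fromSpec ⁻¹ᵁ X.basicOpen b := by
      rw [U.2.fromSpec_preimage_basicOpen b]; exact hb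
    have h1 : U.2.fromSpec q = x := U.2.fromSpec_primeIdealOf ⟨x, hxU⟩
    rw [← h1]
    exact h0
  · rw [← 𝓘.map_ideal (U := ⟨X.basicOpen b, U.2.basicOpen b⟩) (V := U) (X.basicOpen_le b)]
    refine le_antisymm (Ideal.map_le_iff_le_comap.mpr (hG.ge.trans (Ideal.span_le.mpr fun g hg => ?_)))
      ((Ideal.span_singleton_le_iff_mem _).mpr (Ideal.mem_map_of_mem _ hj))
    rw [SetLike.mem_coe, Ideal.mem_comap]
    obtain ⟨d, hd⟩ := Ideal.mem_span_singleton.mp (htg ⟨g, hg⟩)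
    refine (Ideal.unit_mul_mem_iff_mem _ ?_).mp
      (?_ : (X.presheaf.map (homOfLE (X.basicOpen_le b)).op).hom (t ⟨g, hg⟩) * _ ∈ _)
    · exact isUnit_of_dvd_unit (map_dvd _ (Finset.dvd_prod_of_mem t (Finset.mem_univ _)))
        (X.toRingedSpace.isUnit_res_basicOpen b)
    · exact Ideal.mem_span_singleton.mpr ⟨_, (map_mul _ _ _).symm.trans
        ((congrArg _ hd).trans (map_mul _ j d))⟩

end Groth.Agent.H29Slice
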