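import Groth.Agent.H29Slice.Core
import Groth.Agent.H29Slice.QuasiReg
import Groth.Agent.H29Slice.QRegular
import Groth.Agent.H29Slice.QBaseChange
import Groth.Prelude.Def_RegImm
import Mathlib

/-!
# Relative quasi-regular sequences in flat finitely presented algebras are transversally regular
-/

set_option autoImplicit false
set_option linter.style.haveILetI false
universe u

open RingTheory.Sequence
open scoped TensorProduct Pointwise

namespace Groth.Agent.H29Slice

variable {A : Type u} [CommRing A]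

/-- Flat quotients are preserved by algebra isomorphisms. -/
theorem flat_quotient_of_algEquiv {L L' : Type u} [CommRing L] [CommRing L'] [Algebra A L]
    [Algebra A L'] (e : L ≃ₐ[A] L') (I : Ideal L) (I' : Ideal L') (hI : I' = I.map e)
    [Module.Flat A (L ⧸ I)] : Module.Flat A (L' ⧸ I') :=
  Module.Flat.of_linearEquiv (Ideal.quotientEquivAlg I I' e hI).toLinearEquiv.symm

/-- Transversal regularity is preserved by algebra isomorphisms. -/
theorem isTransRegularSeq_of_algEquiv {L L' : Type u} [CommRing L] [CommRing L'] [Algebra A L]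
    [Algebra A L'] (e : L ≃ₐ[A] L') {rs : List L} (h : RegImm.IsTransRegularSeq A L rs) :
    RegImm.IsTransRegularSeq A L' (rs.map e) := by
  refine ⟨?_, fun j hj => ?_⟩
  · refine (AddEquiv.isWeaklyRegular_congr (e := e.toAddEquiv) ?_).mp h.1
    rw [List.forall₂_map_right_iff, List.forall₂_same]
    intro r _ x
    exact map_mul e r x
  · rw [List.length_map] at hj
    haveI := h.2 j hj
    refine flat_quotient_of_algEquiv e (Ideal.ofList (rs.take j)) _ ?_
    rw [← List.map_take]
    exact (Ideal.map_ofList (e : L →+* L') _).symm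

/-- Building a transversally regular sequence from its head and tail. -/
theorem isTransRegularSeq_cons {L : Type u} [CommRing L] [Algebra A L] [Module.Flat A L] (h : L)
    (t : List L) (hh : h ∈ nonZeroDivisors L)
    (ht : RegImm.IsTransRegularSeq A (L ⧸ Ideal.span {h}) (t.map (Ideal.Quotient.mk (Ideal.span {h})))) :
    RegImm.IsTransRegularSeq A L (h :: t) := by
  refine ⟨?_, fun j hj => ?_⟩
  · rw [isWeaklyRegular_cons_iff]
    refine ⟨IsSMulRegular.of_right_eq_zero_of_smul fun a ha =>
      (mem_nonZeroDivisors_iff_right.mp hh) a (by rwa [mul_comm]), ?_⟩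
    have h3 : IsWeaklyRegular (L ⧸ Ideal.span {h}) t :=
      (isWeaklyRegular_map_algebraMap_iff (L ⧸ Ideal.span {h}) (L ⧸ Ideal.span {h}) t).mp ht.1
    have e : (h • (⊤ : Submodule L L)) = (Ideal.span {h} : Ideal L) := by
      rw [← Submodule.ideal_span_singleton_smul]
      exact Ideal.mul_top _
    exact (LinearEquiv.isWeaklyRegular_congr (Submodule.quotEquivOfEq _ _ e) _).mpr h3
  · cases j with
    | zero =>
      rw [List.take_zero, Ideal.ofList_nil]
      exact Module.Flat.of_linearEquiv (AlgEquiv.quotientBot A L).toLinearEquiv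
    | succ j =>
      rw [List.length_cons] at hj
      haveI := ht.2 j (by rw [List.length_map]; omega)
      rw [List.take_succ_cons, Ideal.ofList_cons]
      refine Module.Flat.of_linearEquiv ?_ (M := (L ⧸ Ideal.span {h}) ⧸ Ideal.ofList ((t.map (Ideal.Quotient.mk _)).take j))
      refine ((DoubleQuot.quotQuotEquivQuotSupₐ A (Ideal.span {h}) (Ideal.ofList (t.take j))).symm.trans
        (Ideal.quotientEquivAlgOfEq A ?_)).toLinearEquiv
      rw [← List.map_take, ← Ideal.map_ofList]
      rfl

/-- Regularity on the fibre of the head of a quasi-regular sequence in a prime. -/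
theorem fibre_regular_head {B : Type u} [CommRing B] [Algebra A B] [Algebra.FiniteType A B] {r : ℕ}
    (f : Fin (r + 1) → B) (hq : CAlgX.IsQuasiRegular f) [Module.Flat A (B ⧸ Ideal.span (Set.range f))]
    (q : PrimeSpectrum B) (hf : ∀ i, f i ∈ q.asIdeal) :
    ∀ c t : B, t ∉ q.asIdeal →
      t * (f 0 * c) ∈ (q.asIdeal.comap (algebraMap A B)).map (algebraMap A B) →
      ∃ t' ∉ q.asIdeal, t' * c ∈ (q.asIdeal.comap (algebraMap A B)).map (algebraMap A B) := by
  intro c t ht hmem
  let p := q.comap (algebraMap A B)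
  let K := p.asIdeal.Fiber B
  let inc : B →ₐ[A] K := Algebra.TensorProduct.includeRight
  let q' := PrimeSpectrum.preimageEquivFiber A B p ⟨q, rfl⟩
  have hq' : q'.asIdeal.comap inc = q.asIdeal := congrArg (fun z => z.1.asIdeal)
    ((PrimeSpectrum.preimageEquivFiber A B p).left_inv ⟨q, rfl⟩)
  haveI : IsNoetherianRing K := Algebra.FiniteType.isNoetherianRing p.asIdeal.ResidueField K
  let O := Localization.AtPrime q'.asIdeal
  have hqK : CAlgX.IsQuasiRegular (fun i => inc (f i)) :=
    isQuasiRegular_baseChange A B p.asIdeal.ResidueField f hq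
  have hqO := isQuasiRegular_localization (L := O) q'.asIdeal.primeCompl hqK
  have hreg := isWeaklyRegular_of_isQuasiRegular O _ (fun i => by
    rw [IsLocalRing.jacobson_eq_maximalIdeal ⊥ bot_ne_top, ← Localization.AtPrime.map_eq_maximalIdeal]
    exact Ideal.mem_map_of_mem _ (show f i ∈ q'.asIdeal.comap inc from hq'.symm ▸ hf i)) hqO
  rw [List.ofFn_succ, isWeaklyRegular_cons_iff] at hreg
  have hz : ∀ x : B, inc x = 0 → ∃ a ∉ p.asIdeal, algebraMap A B a * x ∈ p.asIdeal.map (algebraMap A B) := by
    intro x hx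
    letI : Algebra B K := Algebra.TensorProduct.rightAlgebra
    let e := Ideal.Fiber.algEquivAux₁ (S := B) p.asIdeal
    have h1 : Ideal.Quotient.mk _ (algebraMap B
        (Localization (Algebra.algebraMapSubmonoid B p.asIdeal.primeCompl)) x) = 0 :=
      (e.commutes x).symm.trans ((congrArg e hx).trans (map_zero e))
    obtain ⟨_, ⟨a, ha, rfl⟩, hax⟩ := (IsLocalization.algebraMap_mem_map_algebraMap_iff
      (Algebra.algebraMapSubmonoid B p.asIdeal.primeCompl) _ _ _).mp (Ideal.Quotient.eq_zero_iff_mem.mp h1)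
    exact ⟨a, ha, hax⟩
  have h0 : inc t * (inc (f 0) * inc c) = 0 := by
    rw [← map_mul, ← map_mul]
    obtain ⟨n, hn⟩ : ∃ n, inc (t * (f 0 * c)) = n := ⟨_, rfl⟩
    have hker : (p.asIdeal.map (algebraMap A B)).map inc = ⊥ := by
      rw [Ideal.map_eq_bot_iff_le_ker, Ideal.map_le_iff_le_comap]
      intro a ha
      rw [Ideal.mem_comap, RingHom.mem_ker, AlgHom.commutes,
        IsScalarTower.algebraMap_apply A p.asIdeal.ResidueField K,
        Ideal.algebraMap_residueField_eq_zero.mpr ha, map_zero]
    exact Ideal.mem_bot.mp (hker ▸ Ideal.mem_map_of_mem inc hmem)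
  have hut : IsUnit (algebraMap K O (inc t)) := IsLocalization.map_units (M := q'.asIdeal.primeCompl) O
    ⟨inc t, fun h => ht (hq' ▸ h : t ∈ q.asIdeal)⟩
  have h1 : algebraMap K O (inc (f 0)) • algebraMap K O (inc c) = 0 := by
    rw [smul_eq_mul, ← map_mul]
    exact hut.mul_right_eq_zero.mp (by rw [← map_mul, h0, map_zero])
  obtain ⟨⟨u, hu⟩, huc⟩ := (IsLocalization.map_eq_zero_iff q'.asIdeal.primeCompl O _).mp
    ((hreg.1 (h1.trans (smul_zero _).symm)) : algebraMap K O (inc c) = 0)
  obtain ⟨a, ha, s, has⟩ := Ideal.Fiber.exists_smul_eq_one_tmul p.asIdeal u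
  have hs : s ∉ q.asIdeal := fun h => by
    have h2 : inc s ∈ q'.asIdeal := show s ∈ q'.asIdeal.comap inc from hq'.symm ▸ h
    rw [show inc s = algebraMap A K a * u from has.symm.trans (Algebra.smul_def _ _)] at h2
    refine (q'.isPrime.mem_or_mem h2).elim (fun h3 => ?_) hu
    have hu' : IsUnit (algebraMap A p.asIdeal.ResidueField a) :=
      isUnit_iff_ne_zero.mpr fun h4 => ha (Ideal.algebraMap_residueField_eq_zero.mp h4)
    rw [IsScalarTower.algebraMap_apply A p.asIdeal.ResidueField K] at h3
    exact q'.isPrime.ne_top (Ideal.eq_top_of_isUnit_mem _ h3 (hu'.map _))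
  have h5 : inc (s * c) = 0 := by
    rw [map_mul, show inc s = a • u from has.symm, smul_mul_assoc]
    exact (congrArg (a • ·) huc).trans (smul_zero a)
  obtain ⟨a', ha', hmem'⟩ := hz _ h5
  exact ⟨algebraMap A B a' * s, fun h => (q.isPrime.mem_or_mem h).elim ha' hs, by rwa [mul_assoc]⟩

end Groth.Agent.H29Slice

namespace Groth.Agent.H29Slice

variable {A : Type u} [CommRing A]

/-- A relative quasi-regular sequence in a flat finitely presented algebra is transversally regular
near every prime containing it. -/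
theorem exists_transReg : ∀ {r : ℕ} (B : Type u) [CommRing B] [Algebra A B]
    [Algebra.FinitePresentation A B] [Module.Flat A B] (f : Fin r → B),
    CAlgX.IsQuasiRegular f → Module.Flat A (B ⧸ Ideal.span (Set.range f)) →
    ∀ q : PrimeSpectrum B, (∀ i, f i ∈ q.asIdeal) →
    ∃ b ∉ q.asIdeal, ∀ (L : Type u) [CommRing L] [Algebra A L] [Algebra B L] [IsScalarTower A B L]
      [IsLocalization.Away b L], RegImm.IsTransRegularSeq A L ((List.ofFn f).map (algebraMap B L)) := by
  intro r
  induction r with
  | zero =>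
    intro B _ _ _ _ f _ _ q _
    refine ⟨1, q.isPrime.ne_top ∘ (Ideal.eq_top_iff_one _).mpr, fun L _ _ _ _ _ => ⟨by simp, fun j _ => ?_⟩⟩
    haveI : Module.Flat B L := IsLocalization.flat L (Submonoid.powers (1 : B))
    haveI : Module.Flat A L := Module.Flat.trans A B L
    rw [List.ofFn_zero, List.map_nil, List.take_nil, Ideal.ofList_nil]
    exact Module.Flat.of_linearEquiv (AlgEquiv.quotientBot A L).toLinearEquiv
  | succ r ih =>
    intro B _ _ _ _ f hq hfl q hfq
    haveI := hfl
    obtain ⟨b₁, hb₁, hs⟩ := exists_slice (A := A) (f 0) q (hfq 0) (fibre_regular_head (A := A) f hq q hfq)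
    let L₁ := Localization.Away b₁
    obtain ⟨hnzd, hflC⟩ := hs L₁
    haveI : Module.Flat B L₁ := IsLocalization.flat L₁ (Submonoid.powers b₁)
    haveI : Module.Flat A L₁ := Module.Flat.trans A B L₁
    let f₁ : Fin (r + 1) → L₁ := fun i => algebraMap B L₁ (f i)
    let I : Ideal L₁ := Ideal.span {f₁ 0}
    let C := L₁ ⧸ I
    haveI : Module.Flat A C := hflC
    haveI : Algebra.FinitePresentation B L₁ := IsLocalization.Away.finitePresentation b₁
    haveI : Algebra.FinitePresentation A L₁ := Algebra.FinitePresentation.trans A B L₁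
    haveI : Algebra.FinitePresentation A C :=
      Algebra.FinitePresentation.quotient (Submodule.fg_span_singleton _)
    have hq₁ : CAlgX.IsQuasiRegular f₁ := isQuasiRegular_localization (Submonoid.powers b₁) hq
    let g : Fin r → C := fun i => Ideal.Quotient.mk I (f₁ i.succ)
    have hqg : CAlgX.IsQuasiRegular g := @isQuasiRegular_quotient_head L₁ _ r f₁ hq₁
    have hflg : Module.Flat A (C ⧸ Ideal.span (Set.range g)) := by
      let J := Ideal.span (Set.range f)
      haveI : Module.Flat A (L₁ ⧸ J.map (algebraMap B L₁)) := by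
        haveI : Module.Flat (B ⧸ J) (L₁ ⧸ J.map (algebraMap B L₁)) := IsLocalization.flat _
          (Algebra.algebraMapSubmonoid (B ⧸ J) (Submonoid.powers b₁))
        haveI : IsScalarTower A (B ⧸ J) (L₁ ⧸ J.map (algebraMap B L₁)) :=
          IsScalarTower.of_algebraMap_eq (R := A) (S := B ⧸ J) (A := L₁ ⧸ J.map (algebraMap B L₁)) fun a =>
            congrArg (Ideal.Quotient.mk (J.map (algebraMap B L₁))) (IsScalarTower.algebraMap_apply A B L₁ a)
        exact Module.Flat.trans A (B ⧸ J) _
      have hJ : J.map (algebraMap B L₁) = Ideal.span (Set.range f₁) := by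
        rw [Ideal.map_span, ← Set.range_comp]; rfl
      refine Module.Flat.of_linearEquiv (M := L₁ ⧸ J.map (algebraMap B L₁)) ?_
      refine ((Ideal.quotientEquivAlgOfEq A (show Ideal.span (Set.range g) =
          (J.map (algebraMap B L₁)).map (Ideal.Quotient.mkₐ A I) from ?_)).trans
        ((DoubleQuot.quotQuotEquivQuotSupₐ A I (J.map (algebraMap B L₁))).trans
          (Ideal.quotientEquivAlgOfEq A (sup_eq_right.mpr ?_)))).toLinearEquiv
      · rw [hJ]; exact (image_span f₁).symm
      · exact (Ideal.span_singleton_le_iff_mem _).mpr (Ideal.mem_map_of_mem _ (Ideal.subset_span ⟨0, rfl⟩))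
    -- the prime in the quotient
    have hdisj : Disjoint (Submonoid.powers b₁ : Set B) (q.asIdeal : Set B) :=
      (Ideal.disjoint_powers_iff_notMem _ (q.isPrime.isRadical)).mpr hb₁
    let q₁ : Ideal L₁ := q.asIdeal.map (algebraMap B L₁)
    haveI hq₁p : q₁.IsPrime := IsLocalization.isPrime_of_isPrime_disjoint (Submonoid.powers b₁) L₁ _ q.isPrime hdisj
    have hcomap : q₁.comap (algebraMap B L₁) = q.asIdeal :=
      IsLocalization.comap_map_of_isPrime_disjoint (Submonoid.powers b₁) L₁ q.isPrime hdisj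
    have hIle : I ≤ q₁ := (Ideal.span_singleton_le_iff_mem _).mpr (Ideal.mem_map_of_mem _ (hfq 0))
    let qC : PrimeSpectrum C := ⟨q₁.map (Ideal.Quotient.mk I),
      Ideal.map_isPrime_of_surjective Ideal.Quotient.mk_surjective (by rwa [Ideal.mk_ker])⟩
    have hqC : ∀ x : L₁, Ideal.Quotient.mk I x ∈ qC.asIdeal ↔ x ∈ q₁ := fun x => by
      show _ ∈ q₁.map _ ↔ _
      rw [Ideal.mem_quotient_iff_mem hIle]
    obtain ⟨c, hc, hIH⟩ := ih C g hqg hflg qC fun i => (hqC _).mpr (Ideal.mem_map_of_mem _ (hfq i.succ))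
    obtain ⟨l, rfl⟩ := Ideal.Quotient.mk_surjective c
    obtain ⟨n, b₂, hb₂⟩ := IsLocalization.Away.surj b₁ l
    have hu₁ : IsUnit (algebraMap B L₁ b₁) := IsLocalization.Away.algebraMap_isUnit b₁
    have hb₂q : b₂ ∉ q.asIdeal := fun h => hc ((hqC _).mpr (by
      have h1 : algebraMap B L₁ b₂ ∈ q₁ := Ideal.mem_map_of_mem _ h
      rw [← hb₂] at h1
      exact (Ideal.mul_unit_mem_iff_mem _ (hu₁.pow n)).mp h1))
    refine ⟨b₁ * b₂, fun h => (q.isPrime.mem_or_mem h).elim hb₁ hb₂q, fun L _ _ _ _ _ => ?_⟩
    let b₂' := algebraMap B L₁ b₂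
    let L₂ := Localization.Away b₂'
    haveI : IsLocalization.Away (b₁ * b₂) L₂ := IsLocalization.Away.mul' L₁ L₂ b₁ b₂
    let e₀ : L₂ ≃ₐ[B] L := IsLocalization.algEquiv (Submonoid.powers (b₁ * b₂)) L₂ L
    let e : L₂ ≃ₐ[A] L := e₀.restrictScalars A
    suffices h₂ : RegImm.IsTransRegularSeq A L₂ ((List.ofFn f).map (algebraMap B L₂)) by
      have h3 := isTransRegularSeq_of_algEquiv e h₂
      rw [List.map_map] at h3
      convert h3 using 2
      exact funext fun x => (e₀.commutes x).symm
    haveI : Module.Flat L₁ L₂ := IsLocalization.flat L₂ (Submonoid.powers b₂')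
    haveI : Module.Flat A L₂ := Module.Flat.trans A L₁ L₂
    rw [List.ofFn_succ, List.map_cons]
    refine isTransRegularSeq_cons _ _ ?_ ?_
    · rw [IsScalarTower.algebraMap_apply B L₁ L₂]
      exact _root_.H29Blow.mem_nonZeroDivisors_map_of_flat
        (RingHom.flat_algebraMap_iff.mpr inferInstance) hnzd
    let J₂ := I.map (algebraMap L₁ L₂)
    haveI : IsScalarTower A C (L₂ ⧸ J₂) :=
      IsScalarTower.of_algebraMap_eq (R := A) (S := C) (A := L₂ ⧸ J₂) fun a =>
        congrArg (Ideal.Quotient.mk J₂) (IsScalarTower.algebraMap_apply A L₁ L₂ a)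
    haveI : IsLocalization.Away (Ideal.Quotient.mk I l) (L₂ ⧸ J₂) := by
      have hloc : IsLocalization (Algebra.algebraMapSubmonoid C (Submonoid.powers b₂')) (L₂ ⧸ J₂) := inferInstance
      rw [Algebra.algebraMapSubmonoid, Submonoid.map_powers] at hloc
      haveI : IsLocalization.Away (algebraMap L₁ C b₂') (L₂ ⧸ J₂) := hloc
      refine IsLocalization.Away.of_associated (r := algebraMap L₁ C b₂') ?_
      show Associated (Ideal.Quotient.mk I (algebraMap B L₁ b₂)) _
      rw [← hb₂, map_mul]
      exact associated_mul_unit_left _ _ (((hu₁.pow n)).map _)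
    have h4 := hIH (L₂ ⧸ J₂)
    have hJ : J₂ = Ideal.span {algebraMap B L₂ (f 0)} := by
      show (Ideal.span _).map _ = _
      rw [Ideal.map_span, Set.image_singleton, ← IsScalarTower.algebraMap_apply]
    have key : ∀ K : Ideal L₂, J₂ = K → RegImm.IsTransRegularSeq A (L₂ ⧸ K)
        (((List.ofFn fun i : Fin r => f i.succ).map (algebraMap B L₂)).map (Ideal.Quotient.mk K)) := by
      rintro K rfl
      convert h4 using 1
      rw [List.map_ofFn, List.map_ofFn, List.map_ofFn]
      refine congrArg List.ofFn (funext fun i => ?_)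
      show Ideal.Quotient.mk J₂ (algebraMap B L₂ (f i.succ)) =
        Ideal.Quotient.mk J₂ (algebraMap L₁ L₂ (algebraMap B L₁ (f i.succ)))
      rw [← IsScalarTower.algebraMap_apply]
    exact key _ hJ

end Groth.Agent.H29Slice
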