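import Groth.Agent.H29Slice.TransReg
import Groth.Agent.H29Slice.Fibre
import Mathlib

/-!
# Sequences regular on a fibre
-/

set_option autoImplicit false
set_option linter.style.haveILetI false
universe u

open RingTheory.Sequence
open scoped TensorProduct Pointwise

namespace Groth.Agent.H29Slice

variable {A : Type u} [CommRing A]

/-- `f` is regular, at the prime `q`, on the fibre over the prime below `q`. -/
def RegOnFibre {B : Type u} [CommRing B] [Algebra A B] {r : ℕ} (f : Fin r → B) (q : Ideal B) : Prop :=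
  ∀ (j : Fin r) (c t : B), t ∉ q →
    t * (f j * c) ∈ Ideal.span (f '' Set.Iio j) ⊔ (q.comap (algebraMap A B)).map (algebraMap A B) →
    ∃ t' ∉ q, t' * c ∈ Ideal.span (f '' Set.Iio j) ⊔ (q.comap (algebraMap A B)).map (algebraMap A B)

theorem image_Iio_zero {B : Type u} {r : ℕ} (f : Fin (r + 1) → B) :
    f '' Set.Iio (0 : Fin (r + 1)) = ∅ := by
  rw [Set.image_eq_empty]
  ext i
  simp

theorem image_Iio_succ {B : Type u} {r : ℕ} (f : Fin (r + 1) → B) (j : Fin r) :
    f '' Set.Iio j.succ = insert (f 0) ((fun i : Fin r => f i.succ) '' Set.Iio j) := by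
  ext x
  constructor
  · rintro ⟨i, hi, rfl⟩
    induction i using Fin.cases with
    | zero => exact Set.mem_insert _ _
    | succ i => exact Set.mem_insert_of_mem _ ⟨i, Fin.succ_lt_succ_iff.mp hi, rfl⟩
  · rintro (rfl | ⟨i, hi, rfl⟩)
    · exact ⟨0, Fin.succ_pos j, rfl⟩
    · exact ⟨i.succ, Fin.succ_lt_succ_iff.mpr hi, rfl⟩

/-- A sequence of elements of a prime, regular on the fibre, is transversally regular nearby. -/
theorem exists_transReg_of_fibre : ∀ {r : ℕ} (B : Type u) [CommRing B] [Algebra A B]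
    [Algebra.FinitePresentation A B] [Module.Flat A B] (f : Fin r → B)
    (q : PrimeSpectrum B), (∀ i, f i ∈ q.asIdeal) → RegOnFibre (A := A) f q.asIdeal →
    ∃ b ∉ q.asIdeal, ∀ (L : Type u) [CommRing L] [Algebra A L] [Algebra B L] [IsScalarTower A B L]
      [IsLocalization.Away b L], RegImm.IsTransRegularSeq A L ((List.ofFn f).map (algebraMap B L)) := by
  intro r
  induction r with
  | zero =>
    intro B _ _ _ _ f q _ _
    refine ⟨1, q.isPrime.ne_top ∘ (Ideal.eq_top_iff_one _).mpr, fun L _ _ _ _ _ => ⟨by simp, fun j _ => ?_⟩⟩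
    haveI : Module.Flat B L := IsLocalization.flat L (Submonoid.powers (1 : B))
    haveI : Module.Flat A L := Module.Flat.trans A B L
    rw [List.ofFn_zero, List.map_nil, List.take_nil, Ideal.ofList_nil]
    exact Module.Flat.of_linearEquiv (AlgEquiv.quotientBot A L).toLinearEquiv
  | succ r ih =>
    intro B _ _ _ _ f q hfq hreg
    obtain ⟨b₁, hb₁, hs⟩ := exists_slice (A := A) (f 0) q (hfq 0) fun c t ht hmem => by
      obtain ⟨t', ht', h'⟩ := hreg 0 c t ht (Ideal.mem_sup_right hmem)
      rw [image_Iio_zero, Ideal.span_empty, bot_sup_eq] at h'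
      exact ⟨t', ht', h'⟩
    let L₁ := Localization.Away b₁
    obtain ⟨hnzd, hflC⟩ := hs L₁
    haveI : Module.Flat B L₁ := IsLocalization.flat L₁ (Submonoid.powers b₁)
    haveI : Module.Flat A L₁ := Module.Flat.trans A B L₁
    let f₁ : Fin (r + 1) → L₁ := fun i => algebraMap B L₁ (f i)
    let I : Ideal L₁ := Ideal.span {f₁ 0}
    let C := L₁ ⧸ I
    haveI : Module.Flat A C := hflC
    haveI : Algebra.FinitePresentation B L₁ := IsLocalization.Away.finitePresentation b₁
    haveI : Algebra.FinitePresentation A L₁ := Algebra.FinitePresentation.trans A B L₁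
    haveI : Algebra.FinitePresentation A C :=
      Algebra.FinitePresentation.quotient (Submodule.fg_span_singleton _)
    let g : Fin r → C := fun i => Ideal.Quotient.mk I (f₁ i.succ)
    -- the prime in the quotient
    have hdisj : Disjoint (Submonoid.powers b₁ : Set B) (q.asIdeal : Set B) :=
      (Ideal.disjoint_powers_iff_notMem _ (q.isPrime.isRadical)).mpr hb₁
    let q₁ : Ideal L₁ := q.asIdeal.map (algebraMap B L₁)
    haveI hq₁p : q₁.IsPrime := IsLocalization.isPrime_of_isPrime_disjoint (Submonoid.powers b₁) L₁ _ q.isPrime hdisj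
    have hcomap : q₁.comap (algebraMap B L₁) = q.asIdeal :=
      IsLocalization.comap_map_of_isPrime_disjoint (Submonoid.powers b₁) L₁ q.isPrime hdisj
    have hIle : I ≤ q₁ := (Ideal.span_singleton_le_iff_mem _).mpr (Ideal.mem_map_of_mem _ (hfq 0))
    let qC : PrimeSpectrum C := ⟨q₁.map (Ideal.Quotient.mk I),
      Ideal.map_isPrime_of_surjective Ideal.Quotient.mk_surjective (by rwa [Ideal.mk_ker])⟩
    have hqC : ∀ x : L₁, Ideal.Quotient.mk I x ∈ qC.asIdeal ↔ x ∈ q₁ := fun x => by
      show _ ∈ q₁.map _ ↔ _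
      rw [Ideal.mem_quotient_iff_mem hIle]
    let φ : B →+* C := (Ideal.Quotient.mk I).comp (algebraMap B L₁)
    have hφq : ∀ x, φ x ∈ qC.asIdeal ↔ x ∈ q.asIdeal := fun x => by
      show Ideal.Quotient.mk I (algebraMap B L₁ x) ∈ qC.asIdeal ↔ _
      rw [hqC, ← hcomap]; rfl
    have hu₁ : IsUnit (algebraMap B L₁ b₁) := IsLocalization.Away.algebraMap_isUnit b₁
    have hφsurj : ∀ z : C, ∃ (n : ℕ) (x : B), z * φ b₁ ^ n = φ x := fun z => by
      obtain ⟨l, rfl⟩ := Ideal.Quotient.mk_surjective z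
      obtain ⟨n, x, hx⟩ := IsLocalization.Away.surj b₁ l
      refine ⟨n, x, ?_⟩
      show Ideal.Quotient.mk I l * (Ideal.Quotient.mk I (algebraMap B L₁ b₁)) ^ n = _
      rw [← map_pow, ← map_mul, hx]
      rfl
    have hp : qC.asIdeal.comap (algebraMap A C) = q.asIdeal.comap (algebraMap A B) := Ideal.ext fun a => by
      rw [Ideal.mem_comap, Ideal.mem_comap, ← hφq]
      exact Iff.of_eq (congrArg (· ∈ qC.asIdeal) (congrArg (Ideal.Quotient.mk I) (IsScalarTower.algebraMap_apply A B L₁ a)))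
    have hmap : ∀ j : Fin r, Ideal.span (g '' Set.Iio j) ⊔
        (qC.asIdeal.comap (algebraMap A C)).map (algebraMap A C) =
        (Ideal.span (f '' Set.Iio j.succ) ⊔ (q.asIdeal.comap (algebraMap A B)).map (algebraMap A B)).map φ := fun j => by
      rw [Ideal.map_sup, Ideal.map_map, hp, image_Iio_succ, Ideal.map_span, Set.image_insert_eq]
      have h0 : φ (f 0) = 0 := Ideal.Quotient.eq_zero_iff_mem.mpr (Ideal.mem_span_singleton_self _)
      rw [h0, Ideal.span_insert_zero]
      refine congrArg₂ _ ?_ ?_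
      · rw [Set.image_image]; rfl
      · refine congrArg₂ Ideal.map (RingHom.ext fun a => ?_) rfl
        exact congrArg (Ideal.Quotient.mk I) (IsScalarTower.algebraMap_apply A B L₁ a)
    have hregC : RegOnFibre (A := A) g qC.asIdeal := by
      intro j c t ht hmem
      obtain ⟨n, c₀, hc⟩ := hφsurj c
      obtain ⟨m, t₀, ht₀⟩ := hφsurj t
      have hu : IsUnit (φ b₁) := hu₁.map (Ideal.Quotient.mk I)
      have ht₀q : t₀ ∉ q.asIdeal := fun h => ht ((Ideal.mul_unit_mem_iff_mem _ (hu.pow m)).mp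
        (ht₀ ▸ (hφq _).mpr h))
      rw [hmap] at hmem ⊢
      set K := Ideal.span (f '' Set.Iio j.succ) ⊔ (q.asIdeal.comap (algebraMap A B)).map (algebraMap A B)
        with hK
      have h1 : φ (t₀ * (f j.succ * c₀)) ∈ K.map φ := by
        rw [map_mul, map_mul, ← ht₀, ← hc, show φ (f j.succ) = g j from rfl,
          show t * φ b₁ ^ m * (g j * (c * φ b₁ ^ n)) = t * (g j * c) * (φ b₁ ^ m * φ b₁ ^ n) by ring]
        exact Ideal.mul_mem_right _ _ hmem
      have hfK : f 0 ∈ K := Ideal.mem_sup_left (Ideal.subset_span ⟨0, Fin.succ_pos j, rfl⟩)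
      have hlift : algebraMap B L₁ (t₀ * (f j.succ * c₀)) ∈ K.map (algebraMap B L₁) := by
        have h2 : Ideal.Quotient.mk I (algebraMap B L₁ (t₀ * (f j.succ * c₀))) ∈
            (K.map (algebraMap B L₁)).map (Ideal.Quotient.mk I) := by rw [Ideal.map_map]; exact h1
        exact (Ideal.mem_quotient_iff_mem
          ((Ideal.span_singleton_le_iff_mem _).mpr (Ideal.mem_map_of_mem _ hfK))).mp h2
      obtain ⟨_, ⟨e, rfl⟩, he⟩ := (IsLocalization.algebraMap_mem_map_algebraMap_iff (Submonoid.powers b₁) L₁ _ _).mp hlift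
      rw [← mul_assoc] at he
      obtain ⟨t', ht', h'⟩ := hreg j.succ c₀ (b₁ ^ e * t₀)
        (fun h => (q.isPrime.mem_or_mem h).elim (fun h0 => hb₁ (q.isPrime.mem_of_pow_mem e h0)) ht₀q) he
      refine ⟨φ t', fun h => ht' ((hφq _).mp h), ?_⟩
      have h3 := Ideal.mem_map_of_mem φ h'
      rw [map_mul, ← hc, ← mul_assoc] at h3
      exact (Ideal.mul_unit_mem_iff_mem _ (hu.pow n)).mp h3
    obtain ⟨c, hc, hIH⟩ := ih C g qC (fun i => (hqC _).mpr (Ideal.mem_map_of_mem _ (hfq i.succ))) hregC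
    obtain ⟨l, rfl⟩ := Ideal.Quotient.mk_surjective c
    obtain ⟨n, b₂, hb₂⟩ := IsLocalization.Away.surj b₁ l
    have hb₂q : b₂ ∉ q.asIdeal := fun h => hc ((hqC _).mpr (by
      have h1 : algebraMap B L₁ b₂ ∈ q₁ := Ideal.mem_map_of_mem _ h
      rw [← hb₂] at h1
      exact (Ideal.mul_unit_mem_iff_mem _ (hu₁.pow n)).mp h1))
    refine ⟨b₁ * b₂, fun h => (q.isPrime.mem_or_mem h).elim hb₁ hb₂q, fun L _ _ _ _ _ => ?_⟩
    let b₂' := algebraMap B L₁ b₂
    let L₂ := Localization.Away b₂'
    haveI : IsLocalization.Away (b₁ * b₂) L₂ := IsLocalization.Away.mul' L₁ L₂ b₁ b₂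
    let e₀ : L₂ ≃ₐ[B] L := IsLocalization.algEquiv (Submonoid.powers (b₁ * b₂)) L₂ L
    let e : L₂ ≃ₐ[A] L := e₀.restrictScalars A
    suffices h₂ : RegImm.IsTransRegularSeq A L₂ ((List.ofFn f).map (algebraMap B L₂)) by
      have h3 := isTransRegularSeq_of_algEquiv e h₂
      rw [List.map_map] at h3
      convert h3 using 2
      exact funext fun x => (e₀.commutes x).symm
    haveI : Module.Flat L₁ L₂ := IsLocalization.flat L₂ (Submonoid.powers b₂')
    haveI : Module.Flat A L₂ := Module.Flat.trans A L₁ L₂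
    rw [List.ofFn_succ, List.map_cons]
    refine isTransRegularSeq_cons _ _ ?_ ?_
    · rw [IsScalarTower.algebraMap_apply B L₁ L₂]
      exact _root_.H29Blow.mem_nonZeroDivisors_map_of_flat
        (RingHom.flat_algebraMap_iff.mpr inferInstance) hnzd
    let J₂ := I.map (algebraMap L₁ L₂)
    haveI : IsScalarTower A C (L₂ ⧸ J₂) :=
      IsScalarTower.of_algebraMap_eq (R := A) (S := C) (A := L₂ ⧸ J₂) fun a =>
        congrArg (Ideal.Quotient.mk J₂) (IsScalarTower.algebraMap_apply A L₁ L₂ a)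
    haveI : IsLocalization.Away (Ideal.Quotient.mk I l) (L₂ ⧸ J₂) := by
      have hloc : IsLocalization (Algebra.algebraMapSubmonoid C (Submonoid.powers b₂')) (L₂ ⧸ J₂) := inferInstance
      rw [Algebra.algebraMapSubmonoid, Submonoid.map_powers] at hloc
      haveI : IsLocalization.Away (algebraMap L₁ C b₂') (L₂ ⧸ J₂) := hloc
      refine IsLocalization.Away.of_associated (r := algebraMap L₁ C b₂') ?_
      show Associated (Ideal.Quotient.mk I (algebraMap B L₁ b₂)) _
      rw [← hb₂, map_mul]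
      exact associated_mul_unit_left _ _ (((hu₁.pow n)).map _)
    have h4 := hIH (L₂ ⧸ J₂)
    have hJ : J₂ = Ideal.span {algebraMap B L₂ (f 0)} := by
      show (Ideal.span _).map _ = _
      rw [Ideal.map_span, Set.image_singleton, ← IsScalarTower.algebraMap_apply]
    have key : ∀ K : Ideal L₂, J₂ = K → RegImm.IsTransRegularSeq A (L₂ ⧸ K)
        (((List.ofFn fun i : Fin r => f i.succ).map (algebraMap B L₂)).map (Ideal.Quotient.mk K)) := by
      rintro K rfl
      convert h4 using 1
      rw [List.map_ofFn, List.map_ofFn, List.map_ofFn]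
      refine congrArg List.ofFn (funext fun i => ?_)
      show Ideal.Quotient.mk J₂ (algebraMap B L₂ (f i.succ)) =
        Ideal.Quotient.mk J₂ (algebraMap L₁ L₂ (algebraMap B L₁ (f i.succ)))
      rw [← IsScalarTower.algebraMap_apply]
    exact key _ hJ

/-- Nakayama on the fibre: a finitely generated ideal with flat quotient is generated near a
prime by any subideal generating it on the fibre there. -/
theorem exists_mul_mem_of_fibre {B : Type u} [CommRing B] [Algebra A B] (J K : Ideal B) (hJ : J.FG)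
    (hK : K ≤ J) [Module.Flat A (B ⧸ J)] (q : PrimeSpectrum B)
    (hgen : ∀ j ∈ J, ∃ t ∉ q.asIdeal, t * j ∈ K ⊔ (q.asIdeal.comap (algebraMap A B)).map (algebraMap A B)) :
    ∃ b ∉ q.asIdeal, ∀ j ∈ J, b * j ∈ K := by
  classical
  let L := Localization.AtPrime q.asIdeal
  let P := (q.asIdeal.comap (algebraMap A B)).map (algebraMap A B)
  let γ := algebraMap B L
  have hle : J.map γ ≤ K.map γ ⊔ IsLocalRing.maximalIdeal L • J.map γ := by
    refine Ideal.map_le_iff_le_comap.mpr fun j hj => ?_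
    obtain ⟨t, ht, htj⟩ := hgen j hj
    obtain ⟨k, hk, v, hv, hkv⟩ := Submodule.mem_sup.mp htj
    have hvJ : v ∈ J := by
      rw [show v = t * j - k by rw [← hkv]; ring]
      exact sub_mem (Ideal.mul_mem_left _ _ hj) (hK hk)
    have hv' : γ v ∈ P.map γ * J.map γ := by
      rw [← Ideal.map_mul]
      exact Ideal.mem_map_of_mem γ (inf_map_le_of_flat_quotient J _ ⟨hvJ, hv⟩)
    have hPle : P.map γ ≤ IsLocalRing.maximalIdeal L := by
      rw [← Localization.AtPrime.map_eq_maximalIdeal]
      exact Ideal.map_mono (Ideal.map_comap_le)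
    have h1 : γ (t * j) ∈ K.map γ ⊔ IsLocalRing.maximalIdeal L • J.map γ := by
      rw [← hkv, map_add]
      exact Submodule.add_mem_sup (Ideal.mem_map_of_mem γ hk) (Ideal.mul_mono_left hPle hv')
    rw [map_mul] at h1
    exact (Ideal.unit_mul_mem_iff_mem _ (IsLocalization.map_units (M := q.asIdeal.primeCompl) L ⟨t, ht⟩)).mp h1
  have hJK : J.map γ ≤ K.map γ := Submodule.le_of_le_smul_of_le_jacobson_bot (hJ.map γ)
    (IsLocalRing.maximalIdeal_le_jacobson _) hle
  obtain ⟨G, rfl⟩ := hJ
  have h2 : ∀ g : G, ∃ t ∈ q.asIdeal.primeCompl, t * (g : B) ∈ K := fun g =>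
    (IsLocalization.algebraMap_mem_map_algebraMap_iff q.asIdeal.primeCompl L _ _).mp
      (hJK (Ideal.mem_map_of_mem γ (Ideal.subset_span g.2)))
  choose t ht htg using h2
  refine ⟨∏ g, t g, prod_mem (S := q.asIdeal.primeCompl) fun g _ => ht g, fun j hj => ?_⟩
  induction hj using Submodule.span_induction with
  | mem g hg =>
    obtain ⟨d, hd⟩ := Finset.dvd_prod_of_mem t (Finset.mem_univ (⟨g, hg⟩ : G))
    rw [hd, mul_right_comm]
    exact Ideal.mul_mem_right _ _ (htg ⟨g, hg⟩)
  | zero => rw [mul_zero]; exact zero_mem _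
  | add x y _ _ hx hy => rw [mul_add]; exact add_mem hx hy
  | smul c x _ hx => rw [smul_eq_mul, mul_left_comm]; exact Ideal.mul_mem_left _ _ hx

end Groth.Agent.H29Slice
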