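import Groth.Agent.H29Slice.Core
import Mathlib

/-!
# Slicing at a point of a scheme
-/

set_option autoImplicit false
set_option linter.style.haveILetI false
universe u

open AlgebraicGeometry CategoryTheory CategoryTheory.Limits IsLocalRing TopologicalSpace

namespace Groth.Agent.H29Slice

/-- An affine neighbourhood inside the flat locus has flat coordinate ring. -/
theorem flat_appLE_of_flat_stalkMap {X S : Scheme.{u}} (f : X ⟶ S) {V : S.Opens} (hV : IsAffineOpen V)
    {U : X.Opens} (hU : IsAffineOpen U) (e : U ≤ f ⁻¹ᵁ V)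
    (h : ∀ y ∈ U, (f.stalkMap y).hom.Flat) : (f.appLE V U e).hom.Flat := by
  letI := (f.appLE V U e).hom.toAlgebra
  let φ := Spec.map (CommRingCat.ofHom (algebraMap Γ(S, V) Γ(X, U)))
  have ea : φ ≫ hV.fromSpec = hU.fromSpec ≫ f := IsAffineOpen.SpecMap_appLE_fromSpec f hV hU e
  haveI := hU.isOpenImmersion_fromSpec
  haveI := hV.isOpenImmersion_fromSpec
  refine RingHom.flat_algebraMap_iff.mpr ?_
  refine Module.flat_of_isLocalized_maximal Γ(X, U) Γ(X, U) (fun P _ => Localization.AtPrime P)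
    (fun P _ => Algebra.linearMap _ _) fun P hP => ?_
  let q : PrimeSpectrum Γ(X, U) := ⟨P, hP.isPrime⟩
  refine (H8Props.FlatLocus.flat_stalkMap_Spec_iff q).mp ?_
  refine (H17.LocusBC.flat_stalkMap_comp_iff hU.fromSpec f hV.fromSpec φ ea q).mpr (h _ ?_)
  exact hU.range_fromSpec.le (Set.mem_range_self q)

/-- Slicing a morphism at a point of flatness by a section regular on the fibre. -/
theorem exists_slice_scheme {X S : Scheme.{u}} (f : X ⟶ S) [LocallyOfFinitePresentation f]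
    {V : S.Opens} (hV : IsAffineOpen V) {U : X.Opens} (hU : IsAffineOpen U) (e : U ≤ f ⁻¹ᵁ V)
    (hflat : (f.appLE V U e).hom.Flat) (x : X) (hx : x ∈ U) (s : Γ(X, U))
    (hm : X.presheaf.germ U x hx s ∈ maximalIdeal (X.presheaf.stalk x))
    (hreg : Ideal.Quotient.mk (Ideal.map (f.stalkMap x).hom (maximalIdeal (S.presheaf.stalk (f x))))
      (X.presheaf.germ U x hx s) ∈ nonZeroDivisors
        (X.presheaf.stalk x ⧸ Ideal.map (f.stalkMap x).hom (maximalIdeal (S.presheaf.stalk (f x))))) :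
    ∃ b : Γ(X, U), x ∈ X.basicOpen b ∧
      X.presheaf.map (homOfLE (X.basicOpen_le b)).op s ∈ nonZeroDivisors Γ(X, X.basicOpen b) ∧
      ((Ideal.Quotient.mk (Ideal.span {X.presheaf.map (homOfLE (X.basicOpen_le b)).op s})).comp
        (f.appLE V (X.basicOpen b) ((X.basicOpen_le b).trans e)).hom).Flat := by
  letI := (f.appLE V U e).hom.toAlgebra
  haveI : Module.Flat Γ(S, V) Γ(X, U) := hflat
  haveI : Algebra.FinitePresentation Γ(S, V) Γ(X, U) :=
    LocallyOfFinitePresentation.finitePresentation_appLE f hV hU e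
  let q := hU.primeIdealOf ⟨x, hx⟩
  let π : U := ⟨x, hx⟩
  letI : Algebra Γ(X, U) (X.presheaf.stalk x) := (X.presheaf.germ U x hx).hom.toAlgebra
  haveI : IsLocalization.AtPrime (X.presheaf.stalk x) q.asIdeal := hU.isLocalization_stalk π
  let fx : Γ(S, V) →+* S.presheaf.stalk (f x) := (S.presheaf.germ V (f x) (e hx)).hom
  letI : Algebra Γ(S, V) (S.presheaf.stalk (f x)) := fx.toAlgebra
  haveI : IsLocalization.AtPrime (S.presheaf.stalk (f x)) (hV.primeIdealOf ⟨f x, e hx⟩).asIdeal :=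
    hV.isLocalization_stalk ⟨f x, e hx⟩
  let p := q.asIdeal.comap (algebraMap Γ(S, V) Γ(X, U))
  have hcomp : (f.stalkMap x).hom.comp fx =
      (algebraMap Γ(X, U) (X.presheaf.stalk x)).comp (algebraMap Γ(S, V) Γ(X, U)) := by
    refine RingHom.ext fun a => ?_
    show f.stalkMap x (S.presheaf.germ V (f x) (e hx) a) = X.presheaf.germ U x hx (f.appLE V U e a)
    rw [Scheme.Hom.germ_stalkMap_apply]
    simp [Scheme.Hom.appLE]
  have hp : (hV.primeIdealOf ⟨f x, e hx⟩).asIdeal = p := by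
    rw [← IsLocalization.AtPrime.comap_maximalIdeal (S.presheaf.stalk (f x)) (hV.primeIdealOf ⟨f x, e hx⟩).asIdeal]
    show (maximalIdeal _).comap fx = q.asIdeal.comap (algebraMap Γ(S, V) Γ(X, U))
    rw [← IsLocalization.AtPrime.comap_maximalIdeal (X.presheaf.stalk x) q.asIdeal, Ideal.comap_comap,
      ← hcomp, ← Ideal.comap_comap, ((local_hom_TFAE (f.stalkMap x).hom).out 0 4 : IsLocalHom (f.stalkMap x).hom ↔ (maximalIdeal _).comap (f.stalkMap x).hom = maximalIdeal _).mp inferInstance]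
  have hI : Ideal.map (f.stalkMap x).hom (maximalIdeal (S.presheaf.stalk (f x))) =
      (p.map (algebraMap Γ(S, V) Γ(X, U))).map (algebraMap Γ(X, U) (X.presheaf.stalk x)) := by
    rw [← IsLocalization.AtPrime.map_eq_maximalIdeal (hV.primeIdealOf ⟨f x, e hx⟩).asIdeal
      (S.presheaf.stalk (f x)), hp, Ideal.map_map, Ideal.map_map, ← hcomp]
    rfl
  have hsq : s ∈ q.asIdeal := by
    rw [← IsLocalization.AtPrime.comap_maximalIdeal (X.presheaf.stalk x) q.asIdeal]
    exact hm
  obtain ⟨b, hb, hloc⟩ := exists_slice s q hsq fun c t ht hmem => by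
    have h1 : algebraMap Γ(X, U) (X.presheaf.stalk x) (s * c) ∈
        (p.map (algebraMap Γ(S, V) Γ(X, U))).map (algebraMap Γ(X, U) (X.presheaf.stalk x)) :=
      (IsLocalization.algebraMap_mem_map_algebraMap_iff q.asIdeal.primeCompl _ _ _).mpr ⟨t, ht, hmem⟩
    rw [← hI, map_mul, ← Ideal.Quotient.eq_zero_iff_mem, map_mul, mul_comm] at h1
    have h2 := (mem_nonZeroDivisors_iff_right.mp hreg) _ h1
    rw [Ideal.Quotient.eq_zero_iff_mem, hI] at h2
    exact (IsLocalization.algebraMap_mem_map_algebraMap_iff q.asIdeal.primeCompl _ _ _).mp h2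
  refine ⟨b, ?_, ?_⟩
  · have h0 : q ∈ hU.fromSpec ⁻¹ᵁ X.basicOpen b := by
      rw [hU.fromSpec_preimage_basicOpen b]; exact hb
    have h1 : hU.fromSpec q = x := hU.fromSpec_primeIdealOf ⟨x, hx⟩
    rw [← h1]
    exact h0
  letI : Algebra Γ(X, U) Γ(X, X.basicOpen b) := (X.presheaf.map (homOfLE (X.basicOpen_le b)).op).hom.toAlgebra
  letI : Algebra Γ(S, V) Γ(X, X.basicOpen b) := (f.appLE V (X.basicOpen b) ((X.basicOpen_le b).trans e)).hom.toAlgebra
  haveI : IsScalarTower Γ(S, V) Γ(X, U) Γ(X, X.basicOpen b) := IsScalarTower.of_algebraMap_eq' (by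
    show (f.appLE V (X.basicOpen b) _).hom = (f.appLE V U e ≫ X.presheaf.map (homOfLE (X.basicOpen_le b)).op).hom
    rw [Scheme.Hom.appLE_map])
  haveI : IsLocalization.Away b Γ(X, X.basicOpen b) := hU.isLocalization_basicOpen b
  obtain ⟨h1, h2⟩ := hloc Γ(X, X.basicOpen b)
  exact ⟨h1, RingHom.flat_algebraMap_iff.mpr h2⟩

end Groth.Agent.H29Slice
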