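import Groth.Agent.H8Props.FibreCriterion
import Groth.Agent.H8Props.FlatLocus.Scheme
import Mathlib

/-!
# Slicing a flat finitely presented algebra by a fibrewise regular element

For `A → B` flat of finite presentation and `h` in a prime `q` of `B`, regular on the fibre at `q`,
the map `A[X] → B`, `X ↦ h`, is flat at `q` (fibrewise criterion). Hence near `q` the element `h`
is regular and `B/h` is flat over `A`.
-/

set_option autoImplicit false
set_option linter.style.haveILetI false
universe u

open AlgebraicGeometry CategoryTheory CategoryTheory.Limits IsLocalRing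
open scoped TensorProduct

namespace Groth.Agent.H29Slice

/-- Over a Noetherian local ring with principal maximal ideal `(π)` a module on which `π` is
regular is flat. -/
theorem flat_of_maximal_principal {R M : Type u} [CommRing R] [IsLocalRing R] [IsNoetherianRing R]
    [AddCommGroup M] [Module R M] (π : R) (hπ : maximalIdeal R = Ideal.span {π})
    (hreg : ∀ m : M, π • m = 0 → m = 0) : Module.Flat R M := by
  have hpow : ∀ n (m : M), π ^ n • m = 0 → m = 0 := by
    intro n
    induction n with
    | zero => intro m hm; simpa using hm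
    | succ n ih => intro m hm; rw [pow_succ, mul_smul] at hm; exact hreg m (ih _ hm)
  have hform : ∀ a : R, a ≠ 0 → ∀ m : M, a • m = 0 → m = 0 := by
    intro a ha m hm
    obtain ⟨n, hn⟩ : ∃ n, a ∉ maximalIdeal R ^ n := by
      by_contra! hall
      exact ha (Ideal.mem_bot.mp ((Ideal.iInf_pow_eq_bot_of_isLocalRing _
        (maximalIdeal.isMaximal R).ne_top) ▸ Ideal.mem_iInf.mpr hall))
    induction n generalizing a with
    | zero => simp at hn
    | succ n ih =>
      by_cases hu : IsUnit a
      · exact (IsUnit.smul_eq_zero hu).mp hm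
      · obtain ⟨b, rfl⟩ := Ideal.mem_span_singleton'.mp (hπ ▸ (mem_maximalIdeal a).mpr hu)
        rw [mul_comm, mul_smul] at hm
        refine ih b (fun h0 => ha (by rw [h0, zero_mul])) (hreg _ hm) fun hb => hn ?_
        rw [pow_succ]
        exact Ideal.mul_mem_mul hb (hπ ▸ Ideal.mem_span_singleton_self π)
  haveI : IsPrincipalIdealRing R := IsPrincipalIdealRing.of_prime fun P hP => by
    by_cases hπP : π ∈ P
    · exact ⟨⟨π, le_antisymm ((le_maximalIdeal hP.ne_top).trans_eq hπ)
        ((Ideal.span_singleton_le_iff_mem _).mpr hπP)⟩⟩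
    · refine ⟨⟨0, ?_⟩⟩
      have hle : ∀ n, P ≤ maximalIdeal R ^ n := by
        intro n
        induction n with
        | zero => simp
        | succ n ih =>
          intro x hx
          obtain ⟨y, rfl⟩ := Ideal.mem_span_singleton'.mp
            ((hπ ▸ le_maximalIdeal hP.ne_top : P ≤ Ideal.span {π}) hx)
          rw [pow_succ]
          exact Ideal.mul_mem_mul (ih ((hP.mem_or_mem hx).resolve_right hπP))
            (hπ ▸ Ideal.mem_span_singleton_self π)
      rw [Submodule.span_zero_singleton, eq_bot_iff, ← Ideal.iInf_pow_eq_bot_of_isLocalRing _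
        (maximalIdeal.isMaximal R).ne_top]
      exact le_iInf hle
  rw [Module.Flat.iff_lTensor_injective']
  intro I
  obtain ⟨a, ha⟩ := IsPrincipalIdealRing.principal I
  obtain rfl : I = Ideal.span {a} := ha
  have hs : ∀ z : M ⊗[R] (Ideal.span {a} : Ideal R),
      ∃ m : M, m ⊗ₜ[R] (⟨a, Ideal.mem_span_singleton_self a⟩ : Ideal.span {a}) = z := by
    intro z
    induction z with
    | zero => exact ⟨0, TensorProduct.zero_tmul _ _⟩
    | tmul m x =>
      obtain ⟨c, hc⟩ := Ideal.mem_span_singleton'.mp x.2
      refine ⟨c • m, ?_⟩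
      rw [TensorProduct.smul_tmul]
      exact congrArg _ (Subtype.ext hc)
    | add x y hx hy =>
      obtain ⟨m, rfl⟩ := hx
      obtain ⟨m', rfl⟩ := hy
      exact ⟨m + m', TensorProduct.add_tmul _ _ _⟩
  rw [injective_iff_map_eq_zero]
  intro z hz
  obtain ⟨m, rfl⟩ := hs z
  by_cases h0 : a = 0
  · rw [show (⟨a, _⟩ : Ideal.span {a}) = 0 from Subtype.ext h0, TensorProduct.tmul_zero]
  · have h1 := congrArg (TensorProduct.rid R M) hz
    rw [LinearMap.lTensor_tmul, TensorProduct.rid_tmul, map_zero] at h1
    rw [hform a h0 m h1, TensorProduct.zero_tmul]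

open H8Props in
/-- Converse of `FibreCriterion.flat_quotient_of_flat_fiberMap`. -/
theorem flat_fiberMap_of_flat_quotient {X Y S : Scheme.{u}} (f : X ⟶ Y) (g : Y ⟶ S) (s : S)
    (z : (f ≫ g).fiber s) (x : X) (hx : (f ≫ g).fiberι s z = x)
    (h : (Ideal.quotientMap
      (((maximalIdeal (S.presheaf.stalk (g (f x)))).map (g.stalkMap (f x)).hom).map (f.stalkMap x).hom)
      (f.stalkMap x).hom Ideal.le_comap_map).Flat) :
    ((MoreMor.fiberMap f g s).stalkMap z).hom.Flat := by
  subst hx
  let x := (f ≫ g).fiberι s z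
  let I := (maximalIdeal (S.presheaf.stalk (g (f x)))).map (g.stalkMap (f x)).hom
  have hs : g (f x) = s := ((f ≫ g).range_fiberι s).subset (Set.mem_range_self z)
  let w : g.fiber s := MoreMor.fiberMap f g s z
  have hw : g.fiberι s w = f x := by
    rw [← Scheme.Hom.comp_apply, FibreCriterion.fiberMap_fiberι]; rfl
  let a := FibreStalk.toFibre g (f x) s w hw
  let b := (f ≫ g).fiberι s
  have hkerY : RingHom.ker a.hom = I := FibreCriterion.ker_toFibre_of_eq g (f x) s hs w hw
  have hkerX : RingHom.ker (b.stalkMap z).hom = I.map (f.stalkMap x).hom := by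
    have e : FibreStalk.toFibre (f ≫ g) x s z rfl = b.stalkMap z := by
      simp only [FibreStalk.toFibre, TopCat.Presheaf.stalkCongr_hom, TopCat.Presheaf.stalkSpecializes_refl]
      exact Category.id_comp _
    rw [← e, FibreCriterion.ker_toFibre_of_eq (f ≫ g) x s hs z rfl, Ideal.map_map,
      Scheme.Hom.stalkMap_comp]
    rfl
  have hsq : f.stalkMap x ≫ b.stalkMap z = a ≫ (MoreMor.fiberMap f g s).stalkMap z := by
    have h1 := Scheme.Hom.stalkMap_congr_hom _ _ (FibreCriterion.fiberMap_fiberι f g s).symm z
    rw [Scheme.Hom.stalkMap_comp, Scheme.Hom.stalkMap_comp] at h1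
    exact h1.trans (Category.assoc _ _ _).symm
  let ea : (Y.presheaf.stalk (f x) ⧸ I) ≃+* (g.fiber s).presheaf.stalk w :=
    (Ideal.quotEquivOfEq hkerY.symm).trans
      (RingHom.quotientKerEquivOfSurjective (FibreStalk.toFibre_surjective g (f x) s w hw))
  let eb : (X.presheaf.stalk x ⧸ I.map (f.stalkMap x).hom) ≃+* ((f ≫ g).fiber s).presheaf.stalk z :=
    (Ideal.quotEquivOfEq hkerX.symm).trans
      (RingHom.quotientKerEquivOfSurjective (b.stalkMap_surjective z))
  have e : ((MoreMor.fiberMap f g s).stalkMap z).hom = eb.toRingHom.comp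
      ((Ideal.quotientMap (I.map (f.stalkMap x).hom) (f.stalkMap x).hom Ideal.le_comap_map).comp
        ea.symm.toRingHom) := by
    refine RingHom.ext fun r => ?_
    obtain ⟨r, rfl⟩ := ea.surjective r
    obtain ⟨r, rfl⟩ := Ideal.Quotient.mk_surjective r
    show _ = eb (Ideal.quotientMap _ (f.stalkMap x).hom Ideal.le_comap_map (ea.symm (ea (Ideal.Quotient.mk I r))))
    rw [RingEquiv.symm_apply_apply]
    exact congr($hsq r).symm
  rw [e]
  exact RingHom.Flat.comp (RingHom.Flat.comp (RingHom.Flat.of_bijective ea.symm.bijective) h)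
    (RingHom.Flat.of_bijective eb.bijective)

/-- The map from a ring to a stalk of its spectrum. -/
noncomputable def toStk (R : Type u) [CommRing R] (y : Spec (.of R)) :
    R →+* (Spec (.of R)).presheaf.stalk y :=
  (StructureSheaf.toStalk R y).hom

/-- The stalk of `Spec φ` on elements coming from the ring. -/
theorem stalkMap_toStalk' {R S : Type u} [CommRing R] [CommRing S] (φ : R →+* S) (q : Spec (.of S))
    (r : R) :
    (Spec.map (CommRingCat.ofHom φ)).stalkMap q
      (toStk R (Spec.map (CommRingCat.ofHom φ) q) r) =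
      toStk S q (φ r) :=
  stalkMap_toStalk_apply (CommRingCat.ofHom φ) q r

theorem maximalIdeal_stalk_Spec {R : Type u} [CommRing R] (y : Spec (.of R)) :
    maximalIdeal ((Spec (.of R)).presheaf.stalk y) =
      y.asIdeal.map (toStk R y) := by
  letI : Algebra R ((Spec (.of R)).presheaf.stalk y) := (StructureSheaf.toStalk R y).hom.toAlgebra
  haveI : IsLocalization.AtPrime ((Spec (.of R)).presheaf.stalk y) y.asIdeal :=
    StructureSheaf.IsLocalization.to_stalk R y
  exact (IsLocalization.AtPrime.map_eq_maximalIdeal y.asIdeal _).symm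

theorem map_maximalIdeal_Spec {R S : Type u} [CommRing R] [CommRing S] (φ : R →+* S)
    (q : Spec (.of S)) :
    (maximalIdeal ((Spec (.of R)).presheaf.stalk (Spec.map (CommRingCat.ofHom φ) q))).map
        ((Spec.map (CommRingCat.ofHom φ)).stalkMap q).hom =
      ((q.asIdeal.comap φ).map φ).map (toStk S q) := by
  rw [maximalIdeal_stalk_Spec, Ideal.map_map, Ideal.map_map]
  refine congrArg₂ Ideal.map ?_ rfl
  exact RingHom.ext fun r => stalkMap_toStalk' φ q r

open Polynomial in
/-- `A[X] → B`, `X ↦ h`, is flat at `q` if `A → B` is flat and `h ∈ q` is regular on the fibre. -/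
theorem flat_stalkMap_aeval {A B : Type u} [CommRing A] [CommRing B] [Algebra A B]
    [Algebra.FinitePresentation A B] [Module.Flat A B] (h : B) (q : PrimeSpectrum B)
    (hq : h ∈ q.asIdeal)
    (hreg : ∀ c t : B, t ∉ q.asIdeal →
      t * (h * c) ∈ (q.asIdeal.comap (algebraMap A B)).map (algebraMap A B) →
      ∃ t' ∉ q.asIdeal, t' * c ∈ (q.asIdeal.comap (algebraMap A B)).map (algebraMap A B)) :
    ((Spec.map (CommRingCat.ofHom (aeval (R := A) h).toRingHom)).stalkMap q).hom.Flat := by
  set α := (aeval (R := A) h).toRingHom with hα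
  let γ : A →+* A[X] := C
  let f := Spec.map (CommRingCat.ofHom α)
  let g := Spec.map (CommRingCat.ofHom γ)
  have hαγ : α.comp γ = algebraMap A B := RingHom.ext fun a => aeval_C h a
  have hfg : f ≫ g = Spec.map (CommRingCat.ofHom (algebraMap A B)) := by
    rw [← Spec.map_comp, ← CommRingCat.ofHom_comp, hαγ]
  haveI : LocallyOfFinitePresentation g := (HasRingHomProperty.Spec_iff (P := @LocallyOfFinitePresentation)).mpr
    (show RingHom.FinitePresentation (algebraMap A A[X]) from
      RingHom.finitePresentation_algebraMap.mpr inferInstance)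
  haveI : LocallyOfFinitePresentation (f ≫ g) := hfg ▸
    (HasRingHomProperty.Spec_iff (P := @LocallyOfFinitePresentation)).mpr
      (RingHom.finitePresentation_algebraMap.mpr inferInstance)
  haveI : Flat (f ≫ g) := hfg ▸ (HasRingHomProperty.Spec_iff (P := @Flat)).mpr
    (RingHom.flat_algebraMap_iff.mpr inferInstance)
  let x : Spec (CommRingCat.of B) := q
  suffices hfib : ((MoreMor.fiberMap f g ((f ≫ g) x)).stalkMap ((f ≫ g).asFiber x)).hom.Flat by
    have h1 := (H8Props.FibreCriterion.flat_stalkMap_of_fiberMap f g _ _ hfib).1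
    rwa [Scheme.Hom.fiberι_asFiber] at h1
  refine flat_fiberMap_of_flat_quotient f g _ _ x (Scheme.Hom.fiberι_asFiber _ _) ?_
  let y := f x
  let J : Ideal ((Spec (.of A[X])).presheaf.stalk y) :=
    (maximalIdeal _).map (g.stalkMap y).hom
  let τB := toStk B x
  let τP := toStk A[X] y
  let p := q.asIdeal.comap (algebraMap A B)
  have hp : y.asIdeal.comap γ = p := Ideal.ext fun a =>
    show α (γ a) ∈ q.asIdeal ↔ _ from by rw [← RingHom.comp_apply, hαγ]; rfl
  have hJ : J = (p.map γ).map τP := by
    show (maximalIdeal _).map (g.stalkMap y).hom = _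
    rw [← hp]
    exact map_maximalIdeal_Spec γ y
  have hsm : ∀ r : A[X], f.stalkMap x (τP r) = τB (α r) := fun r => stalkMap_toStalk' α x r
  have hJB : J.map (f.stalkMap x).hom = (p.map (algebraMap A B)).map τB := by
    rw [hJ, ← hαγ]; simp only [Ideal.map_map]
    exact congrArg₂ Ideal.map (RingHom.ext fun a => hsm (γ a)) rfl
  have hle : J ≤ maximalIdeal _ := map_maximalIdeal_le (g.stalkMap y).hom
  haveI : LocallyOfFiniteType (g.fiberToSpecResidueField (g y)) :=
    MorphismProperty.pullback_snd (P := @LocallyOfFiniteType) _ _ inferInstance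
  haveI : IsLocallyNoetherian (g.fiber (g y)) :=
    LocallyOfFiniteType.isLocallyNoetherian (g.fiberToSpecResidueField (g y))
  haveI : IsNoetherianRing ((Spec (.of A[X])).presheaf.stalk y ⧸ J) := by
    let w := g.asFiber y
    have hw : g.fiberι (g y) w = y := g.fiberι_asFiber y
    exact isNoetherianRing_of_ringEquiv _ ((Ideal.quotEquivOfEq
      (H8Props.FibreStalk.ker_toFibre g y w hw).symm).trans
      (RingHom.quotientKerEquivOfSurjective (H8Props.FibreStalk.toFibre_surjective g y _ w hw))).symm
  haveI : Nontrivial ((Spec (.of A[X])).presheaf.stalk y ⧸ J) :=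
    Ideal.Quotient.nontrivial_iff.mpr (ne_top_of_le_ne_top (maximalIdeal.isMaximal _).ne_top hle)
  haveI : IsLocalRing ((Spec (.of A[X])).presheaf.stalk y ⧸ J) :=
    .of_surjective' _ Ideal.Quotient.mk_surjective
  have hmax : maximalIdeal ((Spec (.of A[X])).presheaf.stalk y ⧸ J) =
      Ideal.span {Ideal.Quotient.mk J (τP X)} := by
    haveI : IsLocalHom (Ideal.Quotient.mk J) := .of_surjective _ Ideal.Quotient.mk_surjective
    rw [← IsLocalRing.map_maximalIdeal_of_surjective _ Ideal.Quotient.mk_surjective,
      maximalIdeal_stalk_Spec, Ideal.map_map]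
    refine le_antisymm (Ideal.map_le_iff_le_comap.mpr fun r hr => ?_)
      ((Ideal.span_singleton_le_iff_mem _).mpr (Ideal.mem_map_of_mem _
        (show α X ∈ q.asIdeal by rw [hα]; show aeval h X ∈ q.asIdeal; rw [aeval_X]; exact hq)))
    have hX : α X ∈ q.asIdeal := by rw [hα]; show aeval h X ∈ q.asIdeal; rw [aeval_X]; exact hq
    have h0 : r.coeff 0 ∈ p := by
      rw [← hp]
      show α (C (r.coeff 0)) ∈ q.asIdeal
      have hr' : α r ∈ q.asIdeal := hr
      rw [← X_mul_divX_add r, map_add, map_mul] at hr'
      exact (q.asIdeal.add_mem_iff_right (q.asIdeal.mul_mem_right _ hX)).mp hr'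
    rw [Ideal.mem_comap, ← X_mul_divX_add r, map_add, map_mul]
    refine Ideal.add_mem _ (Ideal.mul_mem_right _ _ (Ideal.mem_span_singleton_self _)) ?_
    have hz : Ideal.Quotient.mk J (τP (C (r.coeff 0))) = 0 := Ideal.Quotient.eq_zero_iff_mem.mpr
      (hJ ▸ Ideal.mem_map_of_mem _ (Ideal.mem_map_of_mem γ h0))
    rw [RingHom.comp_apply, hz]
    exact zero_mem _
  letI := (Ideal.quotientMap (J.map (f.stalkMap x).hom) (f.stalkMap x).hom Ideal.le_comap_map).toAlgebra
  refine RingHom.flat_algebraMap_iff.mpr (flat_of_maximal_principal _ hmax fun m hm => ?_)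
  obtain ⟨m, rfl⟩ := Ideal.Quotient.mk_surjective m
  have hm' : f.stalkMap x (τP X) * m ∈ J.map (f.stalkMap x).hom := by
    rw [← Ideal.Quotient.eq_zero_iff_mem, map_mul]
    exact hm
  rw [hsm, hJB, show α X = h from aeval_X h] at hm'
  refine Ideal.Quotient.eq_zero_iff_mem.mpr (hJB ▸ ?_)
  letI : Algebra B ((Spec (.of B)).presheaf.stalk x) := τB.toAlgebra
  haveI : IsLocalization.AtPrime ((Spec (.of B)).presheaf.stalk x) q.asIdeal :=
    StructureSheaf.IsLocalization.to_stalk B x
  obtain ⟨⟨c, t⟩, hct⟩ := IsLocalization.surj q.asIdeal.primeCompl m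
  have hu : IsUnit (τB t) := IsLocalization.map_units (M := q.asIdeal.primeCompl)
    ((Spec (.of B)).presheaf.stalk x) t
  have hct' : m * τB t = τB c := hct
  have h2 : τB (h * c) ∈ (p.map (algebraMap A B)).map τB := by
    rw [map_mul, ← hct', ← mul_assoc]
    exact Ideal.mul_mem_right _ _ hm'
  obtain ⟨s, hs, hsc⟩ := (IsLocalization.algebraMap_mem_map_algebraMap_iff q.asIdeal.primeCompl
    ((Spec (.of B)).presheaf.stalk x) _ _).mp h2
  obtain ⟨t', ht', htc⟩ := hreg c s hs hsc
  have h3 : τB c ∈ (p.map (algebraMap A B)).map τB :=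
    (IsLocalization.algebraMap_mem_map_algebraMap_iff q.asIdeal.primeCompl
      ((Spec (.of B)).presheaf.stalk x) _ _).mpr ⟨t', ht', htc⟩
  rw [← hct'] at h3
  exact (Ideal.unit_mul_mem_iff_mem _ hu).mp (mul_comm m (τB t) ▸ h3)

open Polynomial in
/-- The consequences of flatness over `A[X]`. -/
theorem regular_and_flat_quotient_of_flat_polynomial {A S : Type u} [CommRing A] [CommRing S]
    [Algebra A S] (h : S) (hfl : (aeval (R := A) h).toRingHom.Flat) :
    h ∈ nonZeroDivisors S ∧ Module.Flat A (S ⧸ Ideal.span {h}) := by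
  letI := (aeval (R := A) h).toRingHom.toAlgebra
  haveI : IsScalarTower A A[X] S := IsScalarTower.of_algebraMap_eq fun a => (aeval_C h a).symm
  haveI : Module.Flat A[X] S := RingHom.flat_algebraMap_iff.mp hfl
  have hX : algebraMap A[X] S X = h := aeval_X h
  refine ⟨mem_nonZeroDivisors_iff_right.mpr fun m hm => ?_, ?_⟩
  · have hsm : IsSMulRegular A[X] (X : A[X]) := fun a b hab => (Polynomial.monic_X (R := A)).isRegular.left hab
    have h1 : IsSMulRegular S (X : A[X]) :=
      fun a b hab => by
        have hinj := Module.Flat.lTensor_preserves_injective_linearMap (M := S)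
          (LinearMap.lsmul A[X] A[X] X) hsm
        let e := TensorProduct.rid A[X] S
        have key : ∀ z : S ⊗[A[X]] A[X], e ((LinearMap.lsmul A[X] A[X] X).lTensor S z) =
            (X : A[X]) • e z := by
          intro z
          induction z with
          | zero => simp
          | tmul m r => simp [e, smul_smul]
          | add u v hu hv => simp only [map_add, hu, hv, smul_add]
        refine e.symm.injective (hinj (e.injective ?_))
        rw [key, key, e.apply_symm_apply, e.apply_symm_apply]
        exact hab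
    refine h1 (show (X : A[X]) • m = (X : A[X]) • (0 : S) from ?_)
    rw [smul_zero, Algebra.smul_def, hX, mul_comm, hm]
  · let I : Ideal A[X] := Ideal.span {X}
    haveI : Module.Flat (A[X] ⧸ I) (S ⧸ I.map (algebraMap A[X] S)) :=
      Module.Flat.of_linearEquiv (Algebra.TensorProduct.quotIdealMapEquivQuotTensor S I).toLinearEquiv
    have hbij : Function.Bijective (algebraMap A (A[X] ⧸ I)) := by
      constructor
      · intro a b hab
        have h2 : (C a - C b : A[X]) ∈ I := (Ideal.Quotient.eq).mp hab
        obtain ⟨r, hr⟩ := Ideal.mem_span_singleton'.mp h2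
        have h3 := congrArg (fun r => Polynomial.coeff r 0) hr
        simp at h3
        exact sub_eq_zero.mp h3.symm
      · intro z
        obtain ⟨r, rfl⟩ := Ideal.Quotient.mk_surjective z
        refine ⟨r.coeff 0, (Ideal.Quotient.eq).mpr (Ideal.mem_span_singleton'.mpr ⟨-r.divX, ?_⟩)⟩
        rw [Polynomial.algebraMap_eq]
        linear_combination -(X_mul_divX_add r)
    haveI : Module.Flat A (A[X] ⧸ I) := RingHom.flat_algebraMap_iff.mp (RingHom.Flat.of_bijective hbij)
    haveI : IsScalarTower A (A[X] ⧸ I) (S ⧸ I.map (algebraMap A[X] S)) :=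
      IsScalarTower.of_algebraMap_eq (R := A) (S := A[X] ⧸ I)
        (A := S ⧸ I.map (algebraMap A[X] S)) fun a =>
        congrArg (Ideal.Quotient.mk (I.map (algebraMap A[X] S))) (IsScalarTower.algebraMap_apply A A[X] S a)
    have hflat : Module.Flat A (S ⧸ I.map (algebraMap A[X] S)) := Module.Flat.trans A (A[X] ⧸ I) _
    rw [Ideal.map_span, Set.image_singleton, hX] at hflat
    exact hflat

open Polynomial in
/-- Slicing: if `A → B` is flat and finitely presented and `h ∈ q` is regular on the fibre at `q`,
then near `q` the element `h` is regular and `B/h` is flat over `A`. -/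
theorem exists_slice {A B : Type u} [CommRing A] [CommRing B] [Algebra A B]
    [Algebra.FinitePresentation A B] [Module.Flat A B] (h : B) (q : PrimeSpectrum B)
    (hq : h ∈ q.asIdeal)
    (hreg : ∀ c t : B, t ∉ q.asIdeal →
      t * (h * c) ∈ (q.asIdeal.comap (algebraMap A B)).map (algebraMap A B) →
      ∃ t' ∉ q.asIdeal, t' * c ∈ (q.asIdeal.comap (algebraMap A B)).map (algebraMap A B)) :
    ∃ b ∉ q.asIdeal, ∀ (Bb : Type u) [CommRing Bb] [Algebra A Bb] [Algebra B Bb]
      [IsScalarTower A B Bb] [IsLocalization.Away b Bb],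
      algebraMap B Bb h ∈ nonZeroDivisors Bb ∧
        Module.Flat A (Bb ⧸ Ideal.span {algebraMap B Bb h}) := by
  let α := (aeval (R := A) h).toRingHom
  let f := Spec.map (CommRingCat.ofHom α)
  have hfl := flat_stalkMap_aeval h q hq hreg
  haveI : LocallyOfFinitePresentation f := by
    refine (HasRingHomProperty.Spec_iff (P := @LocallyOfFinitePresentation)).mpr ?_
    letI := α.toAlgebra
    haveI : IsScalarTower A A[X] B := IsScalarTower.of_algebraMap_eq fun a => (aeval_C h a).symm
    exact RingHom.finitePresentation_algebraMap.mpr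
      (Algebra.FinitePresentation.of_restrict_scalars_finitePresentation A A[X] B)
  obtain ⟨_, ⟨b, rfl⟩, hqb, hle⟩ := PrimeSpectrum.isTopologicalBasis_basic_opens.exists_subset_of_mem_open
    (show q ∈ {y : Spec (.of B) | (f.stalkMap y).hom.Flat} from hfl)
    (H8Props.FlatLocus.isOpen_setOf_flat_stalkMap f)
  refine ⟨b, hqb, fun Bb _ _ _ _ _ => ?_⟩
  refine regular_and_flat_quotient_of_flat_polynomial _ ?_
  rw [show (aeval (R := A) (algebraMap B Bb h)).toRingHom = (algebraMap B Bb).comp α from
    Polynomial.ringHom_ext (fun a => by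
      show aeval (algebraMap B Bb h) (C a) = algebraMap B Bb (aeval h (C a))
      rw [aeval_C, aeval_C, ← IsScalarTower.algebraMap_apply]) (by
      show aeval (algebraMap B Bb h) X = algebraMap B Bb (aeval h X)
      rw [aeval_X, aeval_X])]
  let i := Spec.map (CommRingCat.ofHom (algebraMap B Bb))
  haveI : IsOpenImmersion i := IsOpenImmersion.of_isLocalization b
  haveI : Flat (i ≫ f) := (AlgebraicGeometry.Flat.iff_flat_stalkMap _).mpr fun y => by
    rw [Scheme.Hom.stalkMap_comp]
    refine RingHom.Flat.comp (hle ?_)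
      (RingHom.Flat.of_bijective (ConcreteCategory.bijective_of_isIso (i.stalkMap y)))
    show algebraMap B Bb b ∉ y.asIdeal
    exact fun hb => y.2.ne_top (Ideal.eq_top_of_isUnit_mem _ hb
      (IsLocalization.map_units (M := Submonoid.powers b) Bb ⟨b, Submonoid.mem_powers b⟩))
  have : Flat (Spec.map (CommRingCat.ofHom ((algebraMap B Bb).comp α))) := by
    rw [CommRingCat.ofHom_comp, Spec.map_comp]
    infer_instance
  exact (HasRingHomProperty.Spec_iff (P := @Flat)).mp this

end Groth.Agent.H29Slice
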